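import Cfsg.Agent.Lib.E6Cubic.Cubic

/-!
The check of the steps fixing the coordinate vectors.
-/

set_option autoImplicit false

namespace Cfsg.Agent.Lib.E6Cubic

open Cfsg.Lie Cfsg.Agent.Lib.Chev

/-- The list is `[(ν, ±1)]`. -/
def isUnitTerm (L : List (Fin 27 × ℤ)) (ν : Fin 27) : Bool := L == [(ν, 1)] || L == [(ν, -1)]

/-- The coordinate `ν` vanishes on the image of `p`. -/
def killOK (Z : List (Fin 27)) (p : Fin 27) (k : Fin 27 × Fin 27 × Fin 27) : Bool :=
  Z.contains k.2.1 && isUnitTerm (lTerms k.2.1 k.2.2) k.1 &&
    ((lTerms k.2.1 p).isEmpty || (Z.contains k.2.2 && k.1 != p))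

/-- The root fixes the vectors of `Z`. -/
def okRoot (Z : List (Fin 27)) (r : ℕ) : Bool :=
  decide (r < 72) && (rootS r).all fun e => !Z.contains e.2.1

/-- Within `rows` the root only maps the coordinate `j` to the coordinate `q`. -/
def hitOK (rows : List (Fin 27)) (r : ℕ) (q j : Fin 27) : Bool :=
  ((rootS r).filter fun e => rows.contains e.1) == [(q, j, 1)] ||
    ((rootS r).filter fun e => rows.contains e.1) == [(q, j, -1)]

/-- Each path entry leads to a coordinate leading to `p`. -/
def pathOK (Z : List (Fin 27)) : List (ℕ × Fin 27 × Fin 27) → List (Fin 27) → Bool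
  | [], _ => true
  | e :: L, good => good.contains e.2.2 && okRoot Z e.1 && hitOK [e.2.2] e.1 e.2.2 e.2.1 &&
      pathOK Z L (e.2.1 :: good)

/-- The killed coordinates. -/
def killed (s : Step) : List (Fin 27) := s.kill.map Prod.fst

/-- The coordinates leading to the vector. -/
def goodL (s : Step) : List (Fin 27) := s.vec :: s.path.map fun e => e.2.1

/-- Some coordinate leading to the vector is nonzero. -/
def srcOK (Z : List (Fin 27)) (s : Step) : Bool :=
  match s.src with
  | none => (List.finRange 27).all fun ν => Z.contains ν || (killed s).contains ν || (goodL s).contains ν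
  | some z => Z.contains z &&
      (match lTerms z s.vec with
        | [t] => t.2 == 1 || t.2 == -1
        | _ => false) &&
      (List.finRange 27).all fun b =>
        (lTerms z b).all fun t => (killed s).contains t.1 || (goodL s).contains t.1

/-- The weight of the torus element. -/
def torW (k : List ℤ) (i : Fin 27) : ℤ := ∑ j : Fin 6, k.getD j 0 * wtF (chevE6.simple j) i

/-- The torus element scales the vector and fixes `Z`. -/
def torOK (Z : List (Fin 27)) (s : Step) : Bool :=
  (Z.all fun z => torW s.tor z == 0) && torW s.tor s.vec == 1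

/-- The coordinate of the vector is `1`, or can be made `1`. -/
def headOK (Z : List (Fin 27)) (s : Step) : Bool :=
  match s.forced with
  | some f => Z.contains f.1 && Z.contains f.2 && isUnitTerm (lTerms f.1 f.2) s.vec
  | none => pathOK Z s.path [s.vec] && srcOK Z s && torOK Z s

/-- The cleared coordinates. -/
def cleared (s : Step) : List (Fin 27) := s.clear.map Prod.snd

/-- The clearing roots are correct. -/
def clearOK (Z : List (Fin 27)) (s : Step) : Bool :=
  s.clear.all fun e => okRoot Z e.1 && hitOK (s.vec :: cleared s) e.1 e.2 s.vec && e.2 != s.vec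

/-- The coordinates known to vanish after clearing. -/
def zeros (s : Step) : List (Fin 27) := killed s ++ cleared s

/-- The terms of a derivative not known to vanish. -/
def liveQ (s : Step) (μ : Fin 27) : List (Fin 27 × Fin 27 × ℤ) :=
  (qTerms μ).filter fun t => !((zeros s).contains t.1 || (zeros s).contains t.2.1)

/-- The quadratic equation kills the coordinate. -/
def whiteOK (s : Step) (w : Fin 27 × Fin 27) : Bool :=
  liveQ s w.2 == [(s.vec, w.1, 1)] || liveQ s w.2 == [(s.vec, w.1, -1)] ||
    liveQ s w.2 == [(w.1, s.vec, 1)] || liveQ s w.2 == [(w.1, s.vec, -1)]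

/-- All other coordinates vanish. -/
def coverOK (s : Step) : Bool :=
  (List.finRange 27).all fun ν => ν == s.vec || (zeros s).contains ν || (s.white.map Prod.fst).contains ν

/-- A step is correct. -/
def stepOK (Z : List (Fin 27)) (s : Step) : Bool :=
  !Z.contains s.vec && (s.kill.all (killOK Z s.vec)) && headOK Z s && clearOK Z s &&
    (s.white.all (whiteOK s)) && coverOK s

/-- The steps are correct and fix all vectors. -/
def allOK : List (Fin 27) → List Step → Bool
  | Z, [] => (List.finRange 27).all fun i => Z.contains i
  | Z, s :: L => stepOK Z s && allOK (s.vec :: Z) L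

theorem allOK_stepTab : allOK [] stepTab = true := by decide +kernel

end Cfsg.Agent.Lib.E6Cubic
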