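import Cfsg.Agent.Lib.E6Cubic.Root

/-!
The cubic form in coordinates: the root elements preserve it; its polarisation and partial derivatives.
-/

set_option autoImplicit false

namespace Cfsg.Agent.Lib.E6Cubic

open Cfsg.Lie
open Matrix

variable {F : Type*} [Field F]

/-- A monomial. -/
abbrev Mon : Type := Fin 27 × Fin 27 × Fin 27 × ℤ

/-- The value of a list of monomials. -/
def evalT (L : List Mon) (v : I27 → F) : F :=
  (L.map fun m => (m.2.2.2 : F) * (v (pt m.1) * v (pt m.2.1) * v (pt m.2.2.1))).sum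

theorem evalT_cons (m : Mon) (L : List Mon) (v : I27 → F) :
    evalT (m :: L) v = (m.2.2.2 : F) * (v (pt m.1) * v (pt m.2.1) * v (pt m.2.2.1)) + evalT L v := rfl

set_option maxHeartbeats 4000000 in
theorem cubicT_eq (v : I27 → F) : cubicT v = evalT monTab v := by
  simp [cubicT, mat3, Matrix.det_fin_three, Matrix.trace_fin_three, Matrix.mul_apply, Fin.sum_univ_three,
    evalT, monTab, pt]
  ring

/-! ### The root elements -/

/-- The coordinate `i` of `A v`. -/
def delta (S : Sp) (i : Fin 27) (v : I27 → F) : F :=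
  (S.map fun e => if e.1 = i then (e.2.2 : F) * v (pt e.2.1) else 0).sum

theorem mulVec_toMat (S : Sp) (v : I27 → F) (i : Fin 27) : (toF F (toMat S) *ᵥ v) (pt i) = delta S i v := by
  induction S with
  | nil => simp [toMat_nil, delta]
  | cons e S ih =>
    rw [toMat_cons, map_add, Matrix.add_mulVec, Pi.add_apply, ih, delta, delta, List.map_cons, List.sum_cons]
    congr 1
    have h : toF F (Matrix.single (pt e.1) (pt e.2.1) e.2.2) =
        Matrix.single (pt e.1) (pt e.2.1) (e.2.2 : F) := by
      ext k l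
      simp [toF_apply, Matrix.single, apply_ite (Int.cast : ℤ → F)]
    rw [h, Matrix.single_mulVec_eq]
    simp [Pi.single_apply, pt.injective.eq_iff, eq_comm]

theorem delta_eq_zero {S : Sp} {i : Fin 27} (h : (S.any fun e => e.1 == i) = false) (v : I27 → F) :
    delta S i v = 0 := by
  simp only [List.any_eq_false, beq_iff_eq] at h
  refine List.sum_eq_zero fun x hx => ?_
  obtain ⟨e, he, rfl⟩ := List.mem_map.1 hx
  rw [if_neg (h e he)]

/-- The sorted triple. -/
def sort3 (a b c : Fin 27) : Fin 27 × Fin 27 × Fin 27 :=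
  if a ≤ b then (if b ≤ c then (a, b, c) else if a ≤ c then (a, c, b) else (c, a, b))
  else (if a ≤ c then (b, a, c) else if b ≤ c then (b, c, a) else (c, b, a))

/-- The product of three coordinates. -/
def prod3 (k : Fin 27 × Fin 27 × Fin 27) (v : I27 → F) : F := v (pt k.1) * v (pt k.2.1) * v (pt k.2.2)

theorem prod3_sort3 (a b c : Fin 27) (v : I27 → F) :
    prod3 (sort3 a b c) v = v (pt a) * v (pt b) * v (pt c) := by
  unfold sort3 prod3
  split_ifs <;> ring

/-- The first order terms of a monomial under a root element. -/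
def linMon (S : Sp) (m : Mon) : List ((Fin 27 × Fin 27 × Fin 27) × ℤ) :=
  S.flatMap fun e =>
    (if e.1 = m.1 then [(sort3 e.2.1 m.2.1 m.2.2.1, m.2.2.2 * e.2.2)] else []) ++
    ((if e.1 = m.2.1 then [(sort3 m.1 e.2.1 m.2.2.1, m.2.2.2 * e.2.2)] else []) ++
    (if e.1 = m.2.2.1 then [(sort3 m.1 m.2.1 e.2.1, m.2.2.2 * e.2.2)] else []))

/-- The value of a list of terms. -/
def evalP (L : List ((Fin 27 × Fin 27 × Fin 27) × ℤ)) (v : I27 → F) : F :=
  (L.map fun t => (t.2 : F) * prod3 t.1 v).sum

theorem evalP_append (L M : List ((Fin 27 × Fin 27 × Fin 27) × ℤ)) (v : I27 → F) :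
    evalP (L ++ M) v = evalP L v + evalP M v := by
  simp [evalP]

theorem evalP_linMon (S : Sp) (m : Mon) (v : I27 → F) :
    evalP (linMon S m) v = (m.2.2.2 : F) * (delta S m.1 v * v (pt m.2.1) * v (pt m.2.2.1) +
      v (pt m.1) * delta S m.2.1 v * v (pt m.2.2.1) + v (pt m.1) * v (pt m.2.1) * delta S m.2.2.1 v) := by
  induction S with
  | nil => simp [linMon, evalP, delta]
  | cons e S ih =>
    have e1 : linMon (e :: S) m = linMon [e] m ++ linMon S m := by simp [linMon]
    have e2 : ∀ i, delta (e :: S) i v = (if e.1 = i then (e.2.2 : F) * v (pt e.2.1) else 0) + delta S i v :=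
      fun i => by simp [delta]
    rw [e1, evalP_append, ih, e2, e2, e2]
    simp only [linMon, List.flatMap_cons, List.flatMap_nil, List.append_nil, evalP_append]
    simp only [evalP, apply_ite (List.map _), List.map_cons, List.map_nil, apply_ite List.sum, List.sum_cons,
      List.sum_nil, add_zero, prod3_sort3, Int.cast_mul]
    split_ifs <;> ring

/-- The sum of the coefficients of a key. -/
def keySum (L : List ((Fin 27 × Fin 27 × Fin 27) × ℤ)) (k : Fin 27 × Fin 27 × Fin 27) : ℤ :=
  (L.map fun u => if u.1 = k then u.2 else 0).sum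

theorem evalP_eq_sum (L : List ((Fin 27 × Fin 27 × Fin 27) × ℤ)) (s : Finset (Fin 27 × Fin 27 × Fin 27))
    (hs : ∀ t ∈ L, t.1 ∈ s) (v : I27 → F) : evalP L v = ∑ k ∈ s, (keySum L k : F) * prod3 k v := by
  induction L with
  | nil => simp [evalP, keySum]
  | cons t L ih =>
    have h1 : ∀ k, (keySum (t :: L) k : F) * prod3 k v =
        (if t.1 = k then (t.2 : F) * prod3 k v else 0) + (keySum L k : F) * prod3 k v := by
      intro k
      simp only [keySum, List.map_cons, List.sum_cons, Int.cast_add, add_mul, apply_ite (Int.cast : ℤ → F),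
        Int.cast_zero, ite_mul, zero_mul]
    simp only [h1, Finset.sum_add_distrib, Finset.sum_ite_eq, if_pos (hs t List.mem_cons_self),
      ← ih fun u hu => hs u (List.mem_cons_of_mem t hu)]
    simp [evalP]

/-- All coefficients cancel. -/
def cancels (L : List ((Fin 27 × Fin 27 × Fin 27) × ℤ)) : Bool := L.all fun t => keySum L t.1 == 0

theorem evalP_of_cancels {L : List ((Fin 27 × Fin 27 × Fin 27) × ℤ)} (h : cancels L = true) (v : I27 → F) :
    evalP L v = 0 := by
  rw [evalP_eq_sum L (L.map Prod.fst).toFinset (fun t ht => by simpa using ⟨t.2, ht⟩) v]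
  refine Finset.sum_eq_zero fun k hk => ?_
  obtain ⟨t, ht, rfl⟩ := List.mem_map.1 (List.mem_toFinset.1 hk)
  simp only [cancels, List.all_eq_true, beq_iff_eq] at h
  rw [h t ht, Int.cast_zero, zero_mul]

/-- Whether `i` is a row of a root. -/
def isRow (S : Sp) (i : Fin 27) : Bool := S.any fun e => e.1 == i

/-- At most one coordinate of the monomial is a row. -/
def oneRow (S : Sp) (m : Mon) : Bool :=
  !(isRow S m.1 && isRow S m.2.1) && !(isRow S m.1 && isRow S m.2.2.1) &&
    !(isRow S m.2.1 && isRow S m.2.2.1)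

theorem evalT_transvection {S : Sp} {t : F} {v w : I27 → F}
    (hw : ∀ i, w (pt i) = v (pt i) + t * delta S i v) (L : List Mon) (hL : ∀ m ∈ L, oneRow S m = true) :
    evalT L w = evalT L v + t * evalP (L.flatMap (linMon S)) v := by
  induction L with
  | nil => simp [evalT, evalP]
  | cons m L ih =>
    rw [List.flatMap_cons, evalP_append, evalP_linMon, evalT_cons, evalT_cons,
      ih fun n hn => hL n (List.mem_cons_of_mem m hn), hw, hw, hw]
    have h := hL m List.mem_cons_self
    simp only [oneRow, Bool.and_eq_true, Bool.not_eq_true', Bool.and_eq_false_iff] at h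
    obtain ⟨⟨hab, hac⟩, hbc⟩ := h
    have key : ∀ {i j : Fin 27}, isRow S i = false ∨ isRow S j = false → delta S i v * delta S j v = 0 := by
      rintro i j (h | h) <;> simp [delta_eq_zero (v := v) h]
    have h1 := key hab
    have h2 := key hac
    have h3 := key hbc
    linear_combination (m.2.2.2 : F) * t ^ 2 * v (pt m.2.2.1) * h1 +
      (m.2.2.2 : F) * t ^ 2 * v (pt m.2.1) * h2 + (m.2.2.2 : F) * t ^ 2 * v (pt m.1) * h3 +
      (m.2.2.2 : F) * t ^ 3 * delta S m.2.2.1 v * h1

theorem preserve_dec : ∀ r : Fin 72,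
    monTab.all (oneRow (rootS r)) = true ∧ cancels (monTab.flatMap (linMon (rootS r))) = true := by
  decide +kernel

theorem mulVec_rootY {r : ℕ} (hr : r < 72) (t : F) (v : I27 → F) (i : Fin 27) :
    ((rootY r t : Matrix I27 I27 F) *ᵥ v) (pt i) = v (pt i) + t * delta (rootS r) i v := by
  rw [coe_rootY hr, Matrix.add_mulVec, Matrix.one_mulVec, Matrix.smul_mulVec, Pi.add_apply, Pi.smul_apply,
    smul_eq_mul, rootF, rootA, mulVec_toMat]

theorem rootY_mem_univ {r : ℕ} (hr : r < 72) (t : F) : rootY r t ∈ E6univ F := by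
  intro v
  obtain ⟨h1, h2⟩ := preserve_dec ⟨r, hr⟩
  simp only [List.all_eq_true] at h1
  rw [cubicT_eq, cubicT_eq, Units.coeHom_apply,
    evalT_transvection (v := v) (mulVec_rootY hr t v) monTab h1, evalP_of_cancels h2,
    mul_zero, add_zero]

/-! ### Polarisation -/

/-- A coordinate vector. -/
def bv (F : Type*) [Field F] (i : Fin 27) : I27 → F := Pi.single (pt i) 1

theorem bv_apply (i j : Fin 27) : bv F i (pt j) = if j = i then 1 else 0 := by
  simp [bv, Pi.single_apply, pt.injective.eq_iff]

/-- The polarisation of the cubic form. -/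
def polar (a b c : I27 → F) : F :=
  cubicT (a + b + c) - cubicT (a + b) - cubicT (a + c) - cubicT (b + c) + cubicT a + cubicT b + cubicT c

theorem polar_swap (a b c : I27 → F) : polar a b c = polar a c b := by
  simp only [polar, add_right_comm a b c, add_comm b c]
  ring

theorem polar_map {g : GL I27 F} (hg : g ∈ E6univ F) (a b c : I27 → F) :
    polar ((g : Matrix I27 I27 F) *ᵥ a) ((g : Matrix I27 I27 F) *ᵥ b) ((g : Matrix I27 I27 F) *ᵥ c) =
      polar a b c := by
  have h : ∀ x, cubicT ((g : Matrix I27 I27 F) *ᵥ x) = cubicT x := hg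
  simp only [polar, ← Matrix.mulVec_add, h]

/-- The polarisation of a list of monomials. -/
def evalPolar (L : List Mon) (x y z : I27 → F) : F :=
  (L.map fun m => (m.2.2.2 : F) *
    (x (pt m.1) * y (pt m.2.1) * z (pt m.2.2.1) + x (pt m.1) * y (pt m.2.2.1) * z (pt m.2.1) +
      x (pt m.2.1) * y (pt m.1) * z (pt m.2.2.1) + x (pt m.2.1) * y (pt m.2.2.1) * z (pt m.1) +
      x (pt m.2.2.1) * y (pt m.1) * z (pt m.2.1) + x (pt m.2.2.1) * y (pt m.2.1) * z (pt m.1))).sum

theorem evalPolar_eq (L : List Mon) (a b c : I27 → F) :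
    evalT L (a + b + c) - evalT L (a + b) - evalT L (a + c) - evalT L (b + c) + evalT L a + evalT L b +
      evalT L c = evalPolar L a b c := by
  induction L with
  | nil => simp [evalT, evalPolar]
  | cons m L ih =>
    simp only [evalT_cons, evalPolar, List.map_cons, List.sum_cons, Pi.add_apply] at ih ⊢
    linear_combination ih

theorem polar_eq (a b c : I27 → F) : polar a b c = evalPolar monTab a b c := by
  rw [polar, ← evalPolar_eq]
  simp only [cubicT_eq]

/-- The linear form `polar (e_z) (e_b)`. -/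
def lMon (z b : Fin 27) (m : Mon) : List (Fin 27 × ℤ) :=
  (if m.1 = z ∧ m.2.1 = b then [(m.2.2.1, m.2.2.2)] else []) ++
  ((if m.1 = z ∧ m.2.2.1 = b then [(m.2.1, m.2.2.2)] else []) ++
  ((if m.2.1 = z ∧ m.1 = b then [(m.2.2.1, m.2.2.2)] else []) ++
  ((if m.2.1 = z ∧ m.2.2.1 = b then [(m.1, m.2.2.2)] else []) ++
  ((if m.2.2.1 = z ∧ m.1 = b then [(m.2.1, m.2.2.2)] else []) ++
  (if m.2.2.1 = z ∧ m.2.1 = b then [(m.1, m.2.2.2)] else [])))))

/-- The linear form `polar (e_z) (e_b)`. -/
def lTerms (z b : Fin 27) : List (Fin 27 × ℤ) := monTab.flatMap (lMon z b)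

/-- The value of a linear form. -/
def evalL (L : List (Fin 27 × ℤ)) (v : I27 → F) : F := (L.map fun t => (t.2 : F) * v (pt t.1)).sum

theorem evalPolar_bv (L : List Mon) (z b : Fin 27) (w : I27 → F) :
    evalPolar L (bv F z) (bv F b) w = evalL (L.flatMap (lMon z b)) w := by
  induction L with
  | nil => simp [evalPolar, evalL]
  | cons m L ih =>
    simp only [evalPolar, evalL, lMon, List.map_cons, List.sum_cons, List.flatMap_cons, List.map_append,
      List.sum_append, apply_ite (List.map _), List.map_nil, apply_ite List.sum, List.sum_nil, add_zero] at ih ⊢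
    rw [ih]
    have h2 : ∀ (p q : Prop) [Decidable p] [Decidable q] (x : F),
        (if p then 1 else 0) * (if q then 1 else 0) * x = if p ∧ q then x else 0 := by
      intro p q _ _ x
      split_ifs <;> simp_all
    simp only [bv_apply, h2]
    simp only [mul_add, mul_ite, mul_zero]
    ring

theorem polar_bv (z b : Fin 27) (w : I27 → F) : polar (bv F z) (bv F b) w = evalL (lTerms z b) w := by
  rw [polar_eq, evalPolar_bv, lTerms]

theorem evalPolar_expand (L : List Mon) (a b w : I27 → F) :
    evalPolar L a b w = ∑ i, w (pt i) * evalPolar L a b (bv F i) := by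
  induction L with
  | nil => simp [evalPolar]
  | cons m L ih =>
    simp only [evalPolar, List.map_cons, List.sum_cons, mul_add, Finset.sum_add_distrib] at ih ⊢
    rw [← ih]
    congr 1
    simp only [bv_apply, mul_ite, mul_one, mul_zero, Finset.sum_ite_eq, Finset.mem_univ, if_true]
    ring

theorem polar_expand (a b w : I27 → F) : polar a b w = ∑ i, w (pt i) * polar a b (bv F i) := by
  simp only [polar_eq]
  exact evalPolar_expand monTab a b w

/-! ### Partial derivatives -/

/-- The partial derivative of a monomial. -/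
def qMon (μ : Fin 27) (m : Mon) : List (Fin 27 × Fin 27 × ℤ) :=
  (if m.1 = μ then [(m.2.1, m.2.2.1, m.2.2.2)] else []) ++
  ((if m.2.1 = μ then [(m.1, m.2.2.1, m.2.2.2)] else []) ++
  (if m.2.2.1 = μ then [(m.1, m.2.1, m.2.2.2)] else []))

/-- The partial derivative of the cubic form. -/
def qTerms (μ : Fin 27) : List (Fin 27 × Fin 27 × ℤ) := monTab.flatMap (qMon μ)

/-- The value of a quadratic form. -/
def evalQ (L : List (Fin 27 × Fin 27 × ℤ)) (v : I27 → F) : F :=
  (L.map fun t => (t.2.2 : F) * (v (pt t.1) * v (pt t.2.1))).sum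

theorem evalT_add_bv (L : List Mon) (hL : ∀ m ∈ L, m.1 ≠ m.2.1 ∧ m.1 ≠ m.2.2.1 ∧ m.2.1 ≠ m.2.2.1)
    (u : I27 → F) (t : F) (μ : Fin 27) :
    evalT L (u + t • bv F μ) = evalT L u + t * evalQ (L.flatMap (qMon μ)) u := by
  induction L with
  | nil => simp [evalT, evalQ]
  | cons m L ih =>
    obtain ⟨h1, h2, h3⟩ := hL m List.mem_cons_self
    have ih' := ih fun n hn => hL n (List.mem_cons_of_mem m hn)
    simp only [evalT_cons, List.flatMap_cons, evalQ, qMon, List.map_append, List.sum_append,
      apply_ite (List.map _), List.map_cons, List.map_nil, apply_ite List.sum, List.sum_cons, List.sum_nil,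
      add_zero, Pi.add_apply, Pi.smul_apply, smul_eq_mul, bv_apply] at ih' ⊢
    rw [ih']
    split_ifs <;> first | (exfalso; simp_all; done) | ring

theorem mon_distinct : ∀ m ∈ monTab, m.1 ≠ m.2.1 ∧ m.1 ≠ m.2.2.1 ∧ m.2.1 ≠ m.2.2.1 := by decide +kernel

theorem cubicT_add_bv (u : I27 → F) (t : F) (μ : Fin 27) :
    cubicT (u + t • bv F μ) = cubicT u + t * evalQ (qTerms μ) u := by
  rw [cubicT_eq, cubicT_eq, evalT_add_bv monTab mon_distinct, qTerms]

theorem cubicT_smul (t : F) (v : I27 → F) : cubicT (t • v) = t ^ 3 * cubicT v := by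
  simp only [cubicT_eq]
  induction monTab with
  | nil => simp [evalT]
  | cons m L ih => simp only [evalT_cons, Pi.smul_apply, smul_eq_mul] at ih ⊢; linear_combination ih

theorem evalQ_smul (L : List (Fin 27 × Fin 27 × ℤ)) (t : F) (v : I27 → F) :
    evalQ L (t • v) = t ^ 2 * evalQ L v := by
  induction L with
  | nil => simp [evalQ]
  | cons m L ih =>
    simp only [evalQ, List.map_cons, List.sum_cons, Pi.smul_apply, smul_eq_mul] at ih ⊢
    linear_combination ih

theorem cubicT_bv (p : Fin 27) : cubicT (bv F p) = 0 := by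
  rw [cubicT_eq]
  refine List.sum_eq_zero fun x hx => ?_
  obtain ⟨m, hm, rfl⟩ := List.mem_map.1 hx
  obtain ⟨h1, -, -⟩ := mon_distinct m hm
  simp only [bv_apply]
  split_ifs <;> simp_all

end Cfsg.Agent.Lib.E6Cubic
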