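import Mathlib

/-!
Tables for the representation of dimension 27 of the Chevalley group of type `E6`: the six entries of
each root, the monomials of the cubic form, and the steps fixing the coordinate vectors one after another.
-/

set_option autoImplicit false
set_option maxRecDepth 10000

namespace Cfsg.Agent.Lib.E6Cubic

/-- The entries `(row, column, value)` of the roots. -/
def rootTab : List (List (Fin 27 × Fin 27 × ℤ)) :=
  [[(3, 20, 1), (6, 19, -1), (12, 2, 1), (15, 1, -1), (21, 11, 1), (24, 10, -1)],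
   [(3, 23, -1), (6, 22, 1), (13, 2, -1), (16, 1, 1), (18, 11, 1), (24, 9, -1)],
   [(3, 26, 1), (6, 25, -1), (14, 2, 1), (17, 1, -1), (18, 10, 1), (21, 9, -1)],
   [(6, 0, -1), (7, 1, -1), (8, 2, -1), (18, 20, 1), (21, 23, 1), (24, 26, 1)],
   [(3, 0, 1), (4, 1, 1), (5, 2, 1), (18, 19, -1), (21, 22, -1), (24, 25, -1)],
   [(0, 2, 1), (3, 5, 1), (6, 8, 1), (15, 9, -1), (16, 10, -1), (17, 11, -1)],
   [(6, 14, 1), (7, 11, -1), (15, 23, 1), (16, 20, -1), (24, 5, 1), (25, 2, -1)],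
   [(3, 14, -1), (4, 11, 1), (15, 22, -1), (16, 19, 1), (24, 8, 1), (26, 2, -1)],
   [(6, 13, 1), (7, 10, -1), (15, 26, -1), (17, 20, 1), (21, 5, 1), (22, 2, -1)],
   [(3, 13, -1), (4, 10, 1), (15, 25, 1), (17, 19, -1), (21, 8, 1), (23, 2, -1)],
   [(4, 20, 1), (7, 19, -1), (9, 2, -1), (15, 0, 1), (21, 14, 1), (24, 13, -1)],
   [(6, 12, 1), (7, 9, -1), (16, 26, 1), (17, 23, -1), (18, 5, 1), (19, 2, -1)],
   [(3, 12, -1), (4, 9, 1), (16, 25, -1), (17, 22, 1), (18, 8, 1), (20, 2, -1)],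
   [(4, 23, -1), (7, 22, 1), (10, 2, 1), (16, 0, -1), (18, 14, 1), (24, 12, -1)],
   [(4, 26, 1), (7, 25, -1), (11, 2, -1), (17, 0, 1), (18, 13, 1), (21, 12, -1)],
   [(1, 2, 1), (4, 5, 1), (7, 8, 1), (15, 12, -1), (16, 13, -1), (17, 14, -1)],
   [(0, 1, -1), (3, 4, -1), (6, 7, -1), (12, 9, 1), (13, 10, 1), (14, 11, 1)],
   [(6, 17, 1), (8, 11, -1), (12, 23, -1), (13, 20, 1), (24, 4, -1), (25, 1, 1)],
   [(3, 17, -1), (5, 11, 1), (12, 22, 1), (13, 19, -1), (24, 7, -1), (26, 1, 1)],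
   [(6, 16, 1), (8, 10, -1), (12, 26, 1), (14, 20, -1), (21, 4, -1), (22, 1, 1)],
   [(3, 16, -1), (5, 10, 1), (12, 25, -1), (14, 19, 1), (21, 7, -1), (23, 1, 1)],
   [(5, 20, 1), (8, 19, -1), (9, 1, 1), (12, 0, -1), (21, 17, 1), (24, 16, -1)],
   [(0, 20, -1), (6, 18, 1), (12, 5, 1), (15, 4, -1), (22, 11, 1), (25, 10, -1)],
   [(0, 19, 1), (3, 18, -1), (12, 8, 1), (15, 7, -1), (23, 11, 1), (26, 10, -1)],
   [(9, 11, 1), (12, 14, 1), (15, 17, 1), (24, 18, -1), (25, 19, -1), (26, 20, -1)],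
   [(9, 10, 1), (12, 13, 1), (15, 16, 1), (21, 18, -1), (22, 19, -1), (23, 20, -1)],
   [(6, 15, 1), (8, 9, -1), (13, 26, -1), (14, 23, 1), (18, 4, -1), (19, 1, 1)],
   [(3, 15, -1), (5, 9, 1), (13, 25, 1), (14, 22, -1), (18, 7, -1), (20, 1, 1)],
   [(5, 23, -1), (8, 22, 1), (10, 1, -1), (13, 0, 1), (18, 17, 1), (24, 15, -1)],
   [(5, 26, 1), (8, 25, -1), (11, 1, 1), (14, 0, -1), (18, 16, 1), (21, 15, -1)],
   [(0, 23, -1), (6, 21, 1), (13, 5, 1), (16, 4, -1), (19, 11, -1), (25, 9, 1)],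
   [(0, 22, 1), (3, 21, -1), (13, 8, 1), (16, 7, -1), (20, 11, -1), (26, 9, 1)],
   [(10, 11, 1), (13, 14, 1), (16, 17, 1), (24, 21, -1), (25, 22, -1), (26, 23, -1)],
   [(0, 26, -1), (6, 24, 1), (14, 5, 1), (17, 4, -1), (19, 10, 1), (22, 9, -1)],
   [(0, 25, 1), (3, 24, -1), (14, 8, 1), (17, 7, -1), (20, 10, 1), (23, 9, -1)],
   [(6, 3, 1), (7, 4, 1), (8, 5, 1), (19, 20, -1), (22, 23, -1), (25, 26, -1)],
   [(3, 6, 1), (4, 7, 1), (5, 8, 1), (20, 19, -1), (23, 22, -1), (26, 25, -1)],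
   [(7, 17, -1), (8, 14, 1), (9, 23, -1), (10, 20, 1), (24, 3, -1), (25, 0, 1)],
   [(4, 17, -1), (5, 14, 1), (9, 22, -1), (10, 19, 1), (24, 6, 1), (26, 0, -1)],
   [(11, 10, 1), (14, 13, 1), (17, 16, 1), (21, 24, -1), (22, 25, -1), (23, 26, -1)],
   [(7, 16, -1), (8, 13, 1), (9, 26, 1), (11, 20, -1), (21, 3, -1), (22, 0, 1)],
   [(4, 16, -1), (5, 13, 1), (9, 25, 1), (11, 19, -1), (21, 6, 1), (23, 0, -1)],
   [(0, 14, -1), (1, 11, 1), (15, 21, -1), (16, 18, 1), (25, 8, -1), (26, 5, 1)],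
   [(0, 13, 1), (1, 10, -1), (15, 24, -1), (17, 18, 1), (22, 8, 1), (23, 5, -1)],
   [(1, 20, 1), (7, 18, -1), (9, 5, 1), (15, 3, -1), (22, 14, -1), (25, 13, 1)],
   [(1, 19, 1), (4, 18, -1), (9, 8, -1), (15, 6, 1), (23, 14, 1), (26, 13, -1)],
   [(10, 9, 1), (13, 12, 1), (16, 15, 1), (18, 21, -1), (19, 22, -1), (20, 23, -1)],
   [(11, 9, 1), (14, 12, 1), (17, 15, 1), (18, 24, -1), (19, 25, -1), (20, 26, -1)],
   [(7, 15, -1), (8, 12, 1), (10, 26, -1), (11, 23, 1), (18, 3, -1), (19, 0, 1)],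
   [(4, 15, -1), (5, 12, 1), (10, 25, -1), (11, 22, 1), (18, 6, 1), (20, 0, -1)],
   [(0, 12, -1), (1, 9, 1), (16, 24, -1), (17, 21, 1), (19, 8, -1), (20, 5, 1)],
   [(1, 23, 1), (7, 21, -1), (10, 5, 1), (16, 3, -1), (19, 14, 1), (25, 12, -1)],
   [(1, 22, 1), (4, 21, -1), (10, 8, -1), (16, 6, 1), (20, 14, -1), (26, 12, 1)],
   [(1, 26, 1), (7, 24, -1), (11, 5, 1), (17, 3, -1), (19, 13, -1), (22, 12, 1)],
   [(1, 25, 1), (4, 24, -1), (11, 8, -1), (17, 6, 1), (20, 13, 1), (23, 12, -1)],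
   [(1, 0, -1), (4, 3, -1), (7, 6, -1), (9, 12, 1), (10, 13, 1), (11, 14, 1)],
   [(2, 1, 1), (5, 4, 1), (8, 7, 1), (12, 15, -1), (13, 16, -1), (14, 17, -1)],
   [(0, 17, 1), (2, 11, -1), (12, 21, -1), (13, 18, 1), (25, 7, -1), (26, 4, 1)],
   [(0, 16, -1), (2, 10, 1), (12, 24, -1), (14, 18, 1), (22, 7, 1), (23, 4, -1)],
   [(2, 20, -1), (8, 18, 1), (9, 4, 1), (12, 3, -1), (22, 17, 1), (25, 16, -1)],
   [(2, 19, -1), (5, 18, 1), (9, 7, -1), (12, 6, 1), (23, 17, -1), (26, 16, 1)],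
   [(0, 15, 1), (2, 9, -1), (13, 24, -1), (14, 21, 1), (19, 7, -1), (20, 4, 1)],
   [(2, 23, -1), (8, 21, 1), (10, 4, 1), (13, 3, -1), (19, 17, -1), (25, 15, 1)],
   [(2, 22, -1), (5, 21, 1), (10, 7, -1), (13, 6, 1), (20, 17, 1), (26, 15, -1)],
   [(2, 26, -1), (8, 24, 1), (11, 4, 1), (14, 3, -1), (19, 16, 1), (22, 15, -1)],
   [(2, 25, -1), (5, 24, 1), (11, 7, -1), (14, 6, 1), (20, 16, -1), (23, 15, 1)],
   [(2, 0, 1), (5, 3, 1), (8, 6, 1), (9, 15, -1), (10, 16, -1), (11, 17, -1)],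
   [(0, 3, 1), (1, 4, 1), (2, 5, 1), (19, 18, -1), (22, 21, -1), (25, 24, -1)],
   [(0, 6, -1), (1, 7, -1), (2, 8, -1), (20, 18, 1), (23, 21, 1), (26, 24, 1)],
   [(1, 17, -1), (2, 14, 1), (9, 21, -1), (10, 18, 1), (25, 6, -1), (26, 3, 1)],
   [(1, 16, 1), (2, 13, -1), (9, 24, -1), (11, 18, 1), (22, 6, 1), (23, 3, -1)],
   [(1, 15, -1), (2, 12, 1), (10, 24, -1), (11, 21, 1), (19, 6, -1), (20, 3, 1)]]

/-- The monomials. -/
def monTab : List (Fin 27 × Fin 27 × Fin 27 × ℤ) :=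
  [(0, 4, 8, 1), (0, 5, 7, -1), (0, 9, 18, -1), (0, 10, 21, -1), (0, 11, 24, -1), (1, 3, 8, -1),
   (1, 5, 6, 1), (1, 12, 18, -1), (1, 13, 21, -1), (1, 14, 24, -1), (2, 3, 7, 1), (2, 4, 6, -1),
   (2, 15, 18, -1), (2, 16, 21, -1), (2, 17, 24, -1), (3, 9, 19, -1), (3, 10, 22, -1), (3, 11, 25, -1),
   (4, 12, 19, -1), (4, 13, 22, -1), (4, 14, 25, -1), (5, 15, 19, -1), (5, 16, 22, -1), (5, 17, 25, -1),
   (6, 9, 20, -1), (6, 10, 23, -1), (6, 11, 26, -1), (7, 12, 20, -1), (7, 13, 23, -1), (7, 14, 26, -1),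
   (8, 15, 20, -1), (8, 16, 23, -1), (8, 17, 26, -1), (9, 13, 17, 1), (9, 14, 16, -1), (10, 12, 17, -1),
   (10, 14, 15, 1), (11, 12, 16, 1), (11, 13, 15, -1), (18, 22, 26, 1), (18, 23, 25, -1), (19, 21, 26, -1),
   (19, 23, 24, 1), (20, 21, 25, 1), (20, 22, 24, -1)]

/-- A step: the vector to fix, the pair forcing its coordinate, the source of a nonzero coordinate, the vanishing
coordinates, the paths to the vector, the torus exponents, the clearing roots and the quadratic equations. -/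
structure Step where
  vec : Fin 27
  forced : Option (Fin 27 × Fin 27)
  src : Option (Fin 27)
  kill : List (Fin 27 × Fin 27 × Fin 27)
  path : List (ℕ × Fin 27 × Fin 27)
  tor : List ℤ
  clear : List (ℕ × Fin 27)
  white : List (Fin 27 × Fin 27)

/-- The steps. -/
def stepTab : List Step :=
  [ { vec := 0, forced := none, src := none,
      kill := [],
      path := [(5, 2, 0), (16, 1, 0), (22, 20, 0), (23, 19, 0), (30, 23, 0), (31, 22, 0), (33, 26, 0), (34, 25, 0), (42, 14, 0), (43, 13, 0), (50, 12, 0), (57, 17, 0), (58, 16, 0), (61, 15, 0), (67, 3, 0), (68, 6, 0), (57, 11, 2), (58, 10, 2), (61, 9, 2), (67, 5, 2), (68, 8, 2), (67, 4, 1), (68, 7, 1), (68, 18, 20), (68, 21, 23), (68, 24, 26)],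
      tor := [-2, -2, -1, -2, -2, -2], clear := [(55, 1), (66, 2), (4, 3), (3, 6), (21, 12), (28, 13), (29, 14), (10, 15), (13, 16), (14, 17), (48, 19), (49, 20), (40, 22), (41, 23), (37, 25), (38, 26)],
      white := [(4, 8), (5, 7), (7, 5), (8, 4), (9, 18), (10, 21), (11, 24), (18, 9), (21, 10), (24, 11)] },
    { vec := 1, forced := none, src := none,
      kill := [(4, 0, 8), (5, 0, 7), (7, 0, 5), (8, 0, 4), (9, 0, 18), (10, 0, 21), (11, 0, 24), (18, 0, 9), (21, 0, 10), (24, 0, 11)],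
      path := [(15, 2, 1), (44, 20, 1), (45, 19, 1), (51, 23, 1), (52, 22, 1), (53, 26, 1), (54, 25, 1), (69, 17, 1), (70, 16, 1), (71, 15, 1), (69, 14, 2), (70, 13, 2), (71, 12, 2), (71, 3, 20), (71, 6, 19)],
      tor := [-2, -2, -1, -2, -1, -2], clear := [(16, 0), (56, 2), (0, 15), (1, 16), (2, 17), (26, 19), (27, 20), (19, 22), (20, 23), (17, 25), (18, 26)],
      white := [(3, 8), (6, 5), (12, 18), (13, 21), (14, 24)] },
    { vec := 2, forced := none, src := none,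
      kill := [(3, 1, 8), (4, 0, 8), (5, 0, 7), (6, 1, 5), (7, 0, 5), (8, 0, 4), (9, 0, 18), (10, 0, 21), (11, 0, 24), (12, 1, 18), (13, 1, 21), (14, 1, 24), (18, 0, 9), (21, 0, 10), (24, 0, 11)],
      path := [(59, 20, 2), (60, 19, 2), (62, 23, 2), (63, 22, 2), (64, 26, 2), (65, 25, 2), (63, 17, 20), (65, 16, 20), (65, 15, 23)],
      tor := [1, -2, 1, -2, 1, -2], clear := [(5, 0), (15, 1), (11, 19), (12, 20), (8, 22), (9, 23), (6, 25), (7, 26)],
      white := [(15, 18), (16, 21), (17, 24)] },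
    { vec := 19, forced := none, src := none,
      kill := [(3, 1, 8), (4, 0, 8), (5, 0, 7), (6, 1, 5), (7, 0, 5), (8, 0, 4), (9, 0, 18), (10, 0, 21), (11, 0, 24), (12, 1, 18), (13, 1, 21), (14, 1, 24), (15, 2, 18), (16, 2, 21), (17, 2, 24), (18, 0, 9), (21, 0, 10), (24, 0, 11)],
      path := [(35, 20, 19), (46, 22, 19), (47, 25, 19), (46, 23, 20), (47, 26, 20)],
      tor := [0, -1, 0, -2, 0, -2], clear := [(23, 0), (45, 1), (60, 2), (36, 20), (25, 22), (24, 25)],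
      white := [(23, 24), (26, 21)] },
    { vec := 10, forced := none, src := some 0,
      kill := [(3, 1, 8), (4, 2, 6), (5, 1, 6), (6, 1, 5), (7, 2, 3), (8, 1, 3), (9, 19, 3), (12, 1, 18), (13, 1, 21), (14, 1, 24), (15, 2, 18), (16, 2, 21), (17, 2, 24), (18, 1, 12), (21, 1, 13), (23, 19, 24), (24, 1, 14), (26, 19, 21)],
      path := [(32, 11, 10)],
      tor := [0, -1, 0, -2, 0, -1], clear := [(43, 1), (58, 2), (39, 11), (33, 19), (34, 20), (22, 25)],
      white := [(0, 21), (22, 3)] },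
    { vec := 21, forced := some (0, 10), src := none,
      kill := [],
      path := [],
      tor := [], clear := [(31, 3), (52, 4), (63, 5), (30, 6), (51, 7), (62, 8), (69, 9), (71, 11), (57, 12), (61, 14), (42, 15), (50, 17), (46, 18), (67, 22), (68, 23), (32, 24)],
      white := [(0, 10), (1, 13), (2, 16), (10, 0), (13, 1), (16, 2), (19, 26), (20, 25), (25, 20), (26, 19)] },
    { vec := 13, forced := some (1, 21), src := none,
      kill := [(0, 10, 21), (3, 2, 7), (4, 0, 8), (5, 0, 7), (6, 2, 4), (7, 0, 5), (8, 0, 4), (9, 0, 18), (10, 0, 21), (11, 0, 24), (12, 19, 4), (14, 10, 15), (15, 2, 18), (16, 2, 21), (17, 2, 24), (18, 0, 9), (21, 0, 10), (22, 10, 3), (23, 19, 24), (24, 0, 11), (26, 19, 21)],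
      path := [],
      tor := [], clear := [(70, 2), (53, 19), (54, 20), (44, 25)],
      white := [(1, 21)] },
    { vec := 16, forced := some (2, 21), src := none,
      kill := [(0, 10, 21), (1, 21, 13), (3, 1, 8), (4, 0, 8), (5, 0, 7), (6, 1, 5), (7, 0, 5), (8, 0, 4), (9, 0, 18), (10, 0, 21), (11, 0, 24), (12, 1, 18), (13, 1, 21), (14, 1, 24), (15, 19, 5), (17, 10, 12), (18, 0, 9), (21, 0, 10), (22, 10, 3), (23, 19, 24), (24, 0, 11), (26, 19, 21)],
      path := [],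
      tor := [], clear := [(64, 19), (65, 20), (59, 25)],
      white := [(2, 21)] },
    { vec := 26, forced := some (19, 21), src := none,
      kill := [(0, 10, 21), (1, 21, 13), (2, 21, 16), (3, 1, 8), (4, 0, 8), (5, 0, 7), (6, 1, 5), (7, 0, 5), (8, 0, 4), (9, 0, 18), (10, 0, 21), (11, 0, 24), (12, 1, 18), (13, 1, 21), (14, 1, 24), (15, 2, 18), (16, 2, 21), (17, 2, 24), (18, 0, 9), (21, 0, 10), (22, 10, 3), (23, 10, 6), (24, 0, 11)],
      path := [],
      tor := [], clear := [(47, 20), (35, 25)],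
      white := [(19, 21)] },
    { vec := 3, forced := none, src := none,
      kill := [(0, 10, 21), (1, 21, 13), (2, 21, 16), (4, 0, 8), (5, 0, 7), (6, 26, 11), (7, 0, 5), (8, 0, 4), (9, 0, 18), (10, 0, 21), (11, 0, 24), (12, 16, 11), (13, 1, 21), (14, 16, 9), (15, 13, 11), (16, 2, 21), (17, 13, 9), (18, 0, 9), (19, 21, 26), (20, 21, 25), (21, 0, 10), (22, 13, 4), (23, 13, 7), (24, 0, 11), (25, 21, 20), (26, 19, 21)],
      path := [],
      tor := [0, 1, 0, 1, 0, 1], clear := [],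
      white := [] },
    { vec := 7, forced := some (2, 3), src := none,
      kill := [(0, 10, 21), (1, 21, 13), (2, 21, 16), (3, 1, 8), (4, 19, 12), (5, 1, 6), (6, 1, 5), (8, 1, 3), (9, 19, 3), (10, 0, 21), (11, 16, 12), (12, 1, 18), (13, 1, 21), (14, 1, 24), (15, 19, 5), (16, 2, 21), (17, 10, 12), (18, 1, 12), (19, 21, 26), (20, 21, 25), (21, 0, 10), (22, 10, 3), (23, 19, 24), (24, 1, 14), (25, 21, 20), (26, 19, 21)],
      path := [],
      tor := [], clear := [],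
      white := [] },
    { vec := 5, forced := some (0, 7), src := none,
      kill := [(0, 10, 21), (1, 21, 13), (2, 21, 16), (3, 2, 7), (4, 2, 6), (6, 2, 4), (7, 2, 3), (8, 1, 3), (9, 19, 3), (10, 0, 21), (11, 13, 15), (12, 10, 17), (13, 1, 21), (14, 10, 15), (15, 2, 18), (16, 2, 21), (17, 2, 24), (18, 2, 15), (19, 21, 26), (20, 21, 25), (21, 0, 10), (22, 10, 3), (23, 10, 6), (24, 2, 17), (25, 21, 20), (26, 19, 21)],
      path := [],
      tor := [], clear := [],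
      white := [] },
    { vec := 6, forced := some (1, 5), src := none,
      kill := [(0, 10, 21), (1, 21, 13), (2, 21, 16), (3, 2, 7), (4, 0, 8), (5, 0, 7), (7, 0, 5), (8, 0, 4), (9, 0, 18), (10, 0, 21), (11, 0, 24), (12, 19, 4), (13, 1, 21), (14, 16, 9), (15, 19, 5), (16, 2, 21), (17, 13, 9), (18, 0, 9), (19, 21, 26), (20, 21, 25), (21, 0, 10), (22, 10, 3), (23, 19, 24), (24, 0, 11), (25, 21, 20), (26, 19, 21)],
      path := [],
      tor := [], clear := [],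
      white := [] },
    { vec := 4, forced := some (2, 6), src := none,
      kill := [(0, 10, 21), (1, 21, 13), (2, 21, 16), (3, 1, 8), (5, 0, 7), (6, 1, 5), (7, 0, 5), (8, 1, 3), (9, 19, 3), (10, 0, 21), (11, 16, 12), (12, 1, 18), (13, 1, 21), (14, 1, 24), (15, 19, 5), (16, 2, 21), (17, 10, 12), (18, 1, 12), (19, 21, 26), (20, 21, 25), (21, 0, 10), (22, 10, 3), (23, 10, 6), (24, 1, 14), (25, 21, 20), (26, 19, 21)],
      path := [],
      tor := [], clear := [],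
      white := [] },
    { vec := 8, forced := some (0, 4), src := none,
      kill := [(0, 10, 21), (1, 21, 13), (2, 21, 16), (3, 2, 7), (4, 2, 6), (5, 0, 7), (6, 1, 5), (7, 0, 5), (9, 19, 3), (10, 0, 21), (11, 13, 15), (12, 19, 4), (13, 1, 21), (14, 10, 15), (15, 2, 18), (16, 2, 21), (17, 2, 24), (18, 2, 15), (19, 21, 26), (20, 21, 25), (21, 0, 10), (22, 10, 3), (23, 19, 24), (24, 2, 17), (25, 21, 20), (26, 19, 21)],
      path := [],
      tor := [], clear := [],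
      white := [] },
    { vec := 9, forced := some (19, 3), src := none,
      kill := [(0, 10, 21), (1, 21, 13), (2, 21, 16), (3, 1, 8), (4, 0, 8), (5, 0, 7), (6, 1, 5), (7, 0, 5), (8, 0, 4), (10, 0, 21), (11, 26, 6), (12, 1, 18), (13, 1, 21), (14, 1, 24), (15, 2, 18), (16, 2, 21), (17, 2, 24), (18, 1, 12), (19, 21, 26), (20, 21, 25), (21, 0, 10), (22, 10, 3), (23, 10, 6), (24, 1, 14), (25, 21, 20), (26, 19, 21)],
      path := [],
      tor := [], clear := [],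
      white := [] },
    { vec := 11, forced := some (26, 6), src := none,
      kill := [(0, 10, 21), (1, 21, 13), (2, 21, 16), (3, 1, 8), (4, 0, 8), (5, 0, 7), (6, 1, 5), (7, 0, 5), (8, 0, 4), (9, 19, 3), (10, 0, 21), (12, 1, 18), (13, 1, 21), (14, 1, 24), (15, 2, 18), (16, 2, 21), (17, 2, 24), (18, 0, 9), (19, 21, 26), (20, 21, 25), (21, 0, 10), (22, 10, 3), (23, 19, 24), (24, 1, 14), (25, 21, 20), (26, 19, 21)],
      path := [],
      tor := [], clear := [],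
      white := [] },
    { vec := 12, forced := some (19, 4), src := none,
      kill := [(0, 10, 21), (1, 21, 13), (2, 21, 16), (3, 1, 8), (4, 0, 8), (5, 0, 7), (6, 1, 5), (7, 0, 5), (8, 0, 4), (9, 0, 18), (10, 0, 21), (11, 0, 24), (13, 1, 21), (14, 16, 9), (15, 2, 18), (16, 2, 21), (17, 2, 24), (18, 0, 9), (19, 21, 26), (20, 21, 25), (21, 0, 10), (22, 10, 3), (23, 10, 6), (24, 0, 11), (25, 21, 20), (26, 19, 21)],
      path := [],
      tor := [], clear := [],
      white := [] },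
    { vec := 14, forced := some (16, 9), src := none,
      kill := [(0, 10, 21), (1, 21, 13), (2, 21, 16), (3, 1, 8), (4, 0, 8), (5, 0, 7), (6, 1, 5), (7, 0, 5), (8, 0, 4), (9, 0, 18), (10, 0, 21), (11, 0, 24), (12, 19, 4), (13, 1, 21), (15, 2, 18), (16, 2, 21), (17, 2, 24), (18, 0, 9), (19, 21, 26), (20, 21, 25), (21, 0, 10), (22, 10, 3), (23, 19, 24), (24, 0, 11), (25, 21, 20), (26, 19, 21)],
      path := [],
      tor := [], clear := [],
      white := [] },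
    { vec := 15, forced := some (19, 5), src := none,
      kill := [(0, 10, 21), (1, 21, 13), (2, 21, 16), (3, 1, 8), (4, 0, 8), (5, 0, 7), (6, 1, 5), (7, 0, 5), (8, 0, 4), (9, 0, 18), (10, 0, 21), (11, 0, 24), (12, 1, 18), (13, 1, 21), (14, 1, 24), (16, 2, 21), (17, 10, 12), (18, 0, 9), (19, 21, 26), (20, 21, 25), (21, 0, 10), (22, 10, 3), (23, 10, 6), (24, 0, 11), (25, 21, 20), (26, 19, 21)],
      path := [],
      tor := [], clear := [],
      white := [] },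
    { vec := 17, forced := some (10, 12), src := none,
      kill := [(0, 10, 21), (1, 21, 13), (2, 21, 16), (3, 1, 8), (4, 0, 8), (5, 0, 7), (6, 1, 5), (7, 0, 5), (8, 0, 4), (9, 0, 18), (10, 0, 21), (11, 0, 24), (12, 1, 18), (13, 1, 21), (14, 1, 24), (15, 19, 5), (16, 2, 21), (18, 0, 9), (19, 21, 26), (20, 21, 25), (21, 0, 10), (22, 10, 3), (23, 19, 24), (24, 0, 11), (25, 21, 20), (26, 19, 21)],
      path := [],
      tor := [], clear := [],
      white := [] },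
    { vec := 18, forced := some (0, 9), src := none,
      kill := [(0, 10, 21), (1, 21, 13), (2, 21, 16), (3, 1, 8), (4, 0, 8), (5, 0, 7), (6, 1, 5), (7, 0, 5), (8, 0, 4), (9, 19, 3), (10, 0, 21), (11, 13, 15), (12, 19, 4), (13, 1, 21), (14, 10, 15), (15, 19, 5), (16, 2, 21), (17, 10, 12), (19, 21, 26), (20, 21, 25), (21, 0, 10), (22, 10, 3), (23, 19, 24), (24, 0, 11), (25, 21, 20), (26, 19, 21)],
      path := [],
      tor := [], clear := [],
      white := [] },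
    { vec := 20, forced := some (7, 12), src := none,
      kill := [(0, 10, 21), (1, 21, 13), (2, 21, 16), (3, 1, 8), (4, 0, 8), (5, 0, 7), (6, 1, 5), (7, 0, 5), (8, 0, 4), (9, 0, 18), (10, 0, 21), (11, 0, 24), (12, 1, 18), (13, 1, 21), (14, 1, 24), (15, 2, 18), (16, 2, 21), (17, 2, 24), (18, 0, 9), (19, 21, 26), (21, 0, 10), (22, 10, 3), (23, 19, 24), (24, 0, 11), (25, 3, 11), (26, 19, 21)],
      path := [],
      tor := [], clear := [],
      white := [] },
    { vec := 22, forced := some (10, 3), src := none,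
      kill := [(0, 10, 21), (1, 21, 13), (2, 21, 16), (3, 1, 8), (4, 0, 8), (5, 0, 7), (6, 1, 5), (7, 0, 5), (8, 0, 4), (9, 0, 18), (10, 0, 21), (11, 0, 24), (12, 1, 18), (13, 1, 21), (14, 1, 24), (15, 2, 18), (16, 2, 21), (17, 2, 24), (18, 0, 9), (19, 21, 26), (20, 21, 25), (21, 0, 10), (23, 19, 24), (24, 0, 11), (25, 21, 20), (26, 19, 21)],
      path := [],
      tor := [], clear := [],
      white := [] },
    { vec := 23, forced := some (10, 6), src := none,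
      kill := [(0, 10, 21), (1, 21, 13), (2, 21, 16), (3, 1, 8), (4, 0, 8), (5, 0, 7), (6, 1, 5), (7, 0, 5), (8, 0, 4), (9, 0, 18), (10, 0, 21), (11, 0, 24), (12, 1, 18), (13, 1, 21), (14, 1, 24), (15, 2, 18), (16, 2, 21), (17, 2, 24), (18, 0, 9), (19, 21, 26), (20, 21, 25), (21, 0, 10), (22, 10, 3), (24, 0, 11), (25, 21, 20), (26, 19, 21)],
      path := [],
      tor := [], clear := [],
      white := [] },
    { vec := 24, forced := some (0, 11), src := none,
      kill := [(0, 10, 21), (1, 21, 13), (2, 21, 16), (3, 1, 8), (4, 0, 8), (5, 0, 7), (6, 1, 5), (7, 0, 5), (8, 0, 4), (9, 0, 18), (10, 0, 21), (11, 13, 15), (12, 1, 18), (13, 1, 21), (14, 10, 15), (15, 2, 18), (16, 2, 21), (17, 10, 12), (18, 0, 9), (19, 21, 26), (20, 21, 25), (21, 0, 10), (22, 10, 3), (23, 10, 6), (25, 21, 20), (26, 19, 21)],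
      path := [],
      tor := [], clear := [],
      white := [] },
    { vec := 25, forced := some (21, 20), src := none,
      kill := [(0, 10, 21), (1, 21, 13), (2, 21, 16), (3, 1, 8), (4, 0, 8), (5, 0, 7), (6, 1, 5), (7, 0, 5), (8, 0, 4), (9, 0, 18), (10, 0, 21), (11, 0, 24), (12, 1, 18), (13, 1, 21), (14, 1, 24), (15, 2, 18), (16, 2, 21), (17, 2, 24), (18, 0, 9), (19, 21, 26), (20, 7, 12), (21, 0, 10), (22, 10, 3), (23, 19, 24), (24, 0, 11), (26, 19, 21)],
      path := [],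
      tor := [], clear := [],
      white := [] } ]

end Cfsg.Agent.Lib.E6Cubic
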