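import Cfsg.Agent.Lib.E6Cubic.Check

/-!
The group generated by the root elements, with its torus.
-/

set_option autoImplicit false

namespace Cfsg.Agent.Lib.E6Cubic

open Cfsg.Lie Cfsg.Agent.Lib.Chev
open Matrix

variable {F : Type*} [Field F]

variable (F) in
/-- The group generated by the root elements. -/
def elemGroup : Subgroup (GL I27 F) := Subgroup.closure {g | ∃ (r : ℕ) (t : F), r < 72 ∧ g = rootY r t}

theorem rootY_mem {r : ℕ} (hr : r < 72) (t : F) : rootY r t ∈ elemGroup F :=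
  Subgroup.subset_closure ⟨r, t, hr, rfl⟩

theorem elemGroup_le : elemGroup F ≤ E6univ F := by
  rw [elemGroup, Subgroup.closure_le]
  rintro g ⟨r, t, hr, rfl⟩
  exact rootY_mem_univ hr t

theorem exists_scal_wt {i : ℕ} (hi : i < 6) (c : Fˣ) :
    ∃ h ∈ elemGroup F, (h : Matrix I27 I27 F) = scal F (wt (chevE6.simple i)) c := by
  have hr : chevE6.simple i < 72 := checked_E6.simple_lt hi
  have ho : opp (chevE6.simple i) < 72 := by simp only [opp]; omega
  have hN : ∀ u : F, rootN F (chevE6.simple i) u ∈ elemGroup F := fun u =>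
    mul_mem (mul_mem (rootY_mem hr _) (rootY_mem ho _)) (rootY_mem hr _)
  refine ⟨rootN F (chevE6.simple i) c * (rootN F (chevE6.simple i) ((1 : Fˣ) : F))⁻¹,
    mul_mem (hN _) (inv_mem (hN _)), ?_⟩
  have h1 := coe_rootN (F := F) hr c
  have h2 := coe_rootN (F := F) hr 1
  rw [scal_one, one_mul] at h2
  rw [Units.val_mul, h1, ← h2, mul_assoc, ← Units.val_mul, mul_inv_cancel, Units.val_one, mul_one]

theorem scal_zpow (w : I27 → ℤ) (c : Fˣ) (k : ℤ) : scal F w (c ^ k) = scal F (k • w) c := by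
  simp only [scal, Pi.smul_apply, smul_eq_mul, ← _root_.zpow_mul]

theorem scal_zero (c : Fˣ) : scal F (0 : I27 → ℤ) c = 1 := by simp [scal]

theorem exists_torus (k : List ℤ) (c : Fˣ) :
    ∃ h ∈ elemGroup F, (h : Matrix I27 I27 F) = scal F (fun x => torW k (pt.symm x)) c := by
  have key : ∀ s : Finset (Fin 6), ∃ h ∈ elemGroup F, (h : Matrix I27 I27 F) =
      scal F (∑ j ∈ s, k.getD j 0 • wt (chevE6.simple j)) c := by
    intro s
    induction s using Finset.induction_on with
    | empty => exact ⟨1, one_mem _, by rw [Finset.sum_empty, scal_zero, Units.val_one]⟩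
    | insert j s hj ih =>
      obtain ⟨h, hh, e⟩ := ih
      obtain ⟨g, hg, e'⟩ := exists_scal_wt j.isLt (c ^ k.getD j 0)
      refine ⟨g * h, mul_mem hg hh, ?_⟩
      rw [Finset.sum_insert hj, Units.val_mul, e, e', scal_zpow, scal_mul]
  obtain ⟨h, hh, e⟩ := key Finset.univ
  refine ⟨h, hh, e.trans ?_⟩
  congr 1

theorem scal_mulVec (w : I27 → ℤ) (c : Fˣ) (v : I27 → F) (x : I27) :
    (scal F w c *ᵥ v) x = ((c ^ w x : Fˣ) : F) * v x := by
  rw [scal, Matrix.mulVec_diagonal]

end Cfsg.Agent.Lib.E6Cubic
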