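import Cfsg.Agent.Lib.E6Cubic.Sparse
import Cfsg.Agent.Lib.Chev.Perfect

/-!
An integer model of the root elements of type `E6` in dimension 27, with its relations.
-/

set_option autoImplicit false

namespace Cfsg.Agent.Lib.E6Cubic

open Cfsg.Lie Cfsg.Agent.Lib.Chev

/-- The entries of a root. -/
def rootS (r : ℕ) : Sp := rootTab.getD r []

/-- The matrix of a root. -/
def rootA (r : ℕ) : Matrix I27 I27 ℤ := toMat (rootS r)

/-- The opposite root. -/
def opp (r : ℕ) : ℕ := 71 - r

/-- The weight of a coordinate on the coroot of `r`. -/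
def wtF (r : ℕ) (i : Fin 27) : ℤ :=
  coeff (mulS (rootS r) (rootS (opp r))) i i - coeff (mulS (rootS (opp r)) (rootS r)) i i

/-- The weight of a coordinate on the coroot of `r`. -/
def wt (r : ℕ) (k : I27) : ℤ := wtF r (pt.symm k)

/-- The part of `n_r(c)` not depending on `c`. -/
def zeroS (r : ℕ) : Sp := subS (subS oneS (mulS (rootS r) (rootS (opp r)))) (mulS (rootS (opp r)) (rootS r))

/-- `n_r(1)`. -/
def nS (r : ℕ) : Sp := subS (zeroS r ++ rootS r) (rootS (opp r))

/-- `n_r(1)`. -/
def nInt (r : ℕ) : Matrix I27 I27 ℤ :=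
  1 - rootA r * rootA (opp r) - rootA (opp r) * rootA r + rootA r - rootA (opp r)

theorem toMat_zeroS (r : ℕ) :
    toMat (zeroS r) = 1 - rootA r * rootA (opp r) - rootA (opp r) * rootA r := by
  simp only [zeroS, toMat_subS, toMat_oneS, toMat_mulS, rootA]

theorem toMat_nS (r : ℕ) : toMat (nS r) = nInt r := by
  rw [nS, toMat_subS, toMat_append, toMat_zeroS, nInt, rootA, rootA]

theorem ng_eq {r : ℕ} (hr : r < 72) : ng chevE6 r = opp r := by
  simp only [ng, opp, show chevE6.nroots = 72 from rfl]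

/-- The commutation table. -/
def commOK (r s : ℕ) : Bool :=
  match cE E6.cert r s with
  | [] => sameS (mulS (rootS r) (rootS s)) (mulS (rootS s) (rootS r))
  | [e] => sameS (subS (mulS (rootS r) (rootS s)) (mulS (rootS s) (rootS r))) (smulS e.2 (rootS e.1)) &&
      sameS (mulS (rootS r) (rootS e.1)) [] && sameS (mulS (rootS s) (rootS e.1)) []
  | _ => false

theorem comm_table : ∀ r s : Fin 72, s.val = r.val ∨ s.val = opp r ∨ commOK r s = true := by decide +kernel

theorem sq_dec : ∀ r : Fin 72, sameS (mulS (rootS r) (rootS r)) [] = true := by decide +kernel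

theorem sq_zero (r : Fin 72) : rootA r * rootA r = 0 := by
  rw [rootA, ← toMat_mulS, toMat_eq (sq_dec r), toMat_nil]

theorem aba_dec : ∀ r : Fin 72, sameS (mulS (mulS (rootS r) (rootS (opp r))) (rootS r)) (rootS r) = true := by
  decide +kernel

theorem aba (r : Fin 72) : rootA r * rootA (opp r) * rootA r = rootA r := by
  rw [rootA, rootA, ← toMat_mulS, ← toMat_mulS, toMat_eq (aba_dec r)]

theorem rows_dec : ∀ r : Fin 72, rowsS (zeroS r) (wtF r) 0 = true ∧ rowsS (rootS r) (wtF r) 1 = true ∧
    rowsS (rootS (opp r)) (wtF r) (-1) = true := by decide +kernel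

/-- Row supports of the three parts of `n_r(c)`. -/
theorem rows (r : Fin 72) (k l : I27) :
    ((1 - rootA r * rootA (opp r) - rootA (opp r) * rootA r) k l ≠ 0 → wt r k = 0) ∧
      (rootA r k l ≠ 0 → wt r k = 1) ∧ (rootA (opp r) k l ≠ 0 → wt r k = -1) := by
  obtain ⟨h0, h1, h2⟩ := rows_dec r
  exact ⟨fun h => rows_of_rowsS h0 k l (by rwa [toMat_zeroS]), rows_of_rowsS h1 k l, rows_of_rowsS h2 k l⟩

theorem nInt_dec : ∀ i : Fin 6, ∀ s : Fin 72,
    sameS (mulS (nS (chevE6.simple i)) (rootS s))
      (smulS (eta E6.cert i s) (mulS (rootS (refl E6.cert i s)) (nS (chevE6.simple i)))) = true := by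
  decide +kernel

theorem nInt_mul (i : Fin 6) (s : Fin 72) :
    nInt (chevE6.simple i) * rootA s =
      eta E6.cert i s • (rootA (refl E6.cert i s) * nInt (chevE6.simple i)) := by
  rw [← toMat_nS, rootA, rootA, ← toMat_mulS, ← toMat_mulS, ← toMat_smulS, toMat_eq (nInt_dec i s)]

theorem support_dec : ∀ i : Fin 6, ∀ s : Fin 72,
    suppS (rootS s) (wtF (chevE6.simple i)) (chevE6.cartan i s) = true := by decide +kernel

theorem support (i : Fin 6) (s : Fin 72) (k l : I27) (hkl : rootA s k l ≠ 0) :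
    wt (chevE6.simple i) k - wt (chevE6.simple i) l = chevE6.cartan i s := supp_of_suppS (support_dec i s) k l hkl

end Cfsg.Agent.Lib.E6Cubic
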