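import Cfsg.Agent.Lib.E6Cubic.Model

/-!
The root elements of type `E6` in `GL₂₇` over a field, and their relations.
-/

set_option autoImplicit false

namespace Cfsg.Agent.Lib.E6Cubic

open Cfsg.Lie Cfsg.Agent.Lib.Chev
open Matrix

variable (F : Type*) [Field F]

/-- The image of an integer matrix. -/
def toF : Matrix I27 I27 ℤ →+* Matrix I27 I27 F := (Int.castRingHom F).mapMatrix

variable {F}

theorem toF_apply (M : Matrix I27 I27 ℤ) (k l : I27) : toF F M k l = (M k l : F) := rfl

theorem toF_smul (n : ℤ) (M : Matrix I27 I27 ℤ) : toF F (n • M) = (n : F) • toF F M := by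
  ext k l
  rw [toF_apply, Matrix.smul_apply, Matrix.smul_apply, toF_apply, smul_eq_mul, smul_eq_mul, Int.cast_mul]

variable (F)

/-- The Lie algebra element of a root. -/
def rootF (r : ℕ) : Matrix I27 I27 F := toF F (rootA r)

variable {F}

theorem rootF_sq {r : ℕ} (hr : r < 72) : rootF F r * rootF F r = 0 := by
  rw [rootF, ← map_mul, sq_zero ⟨r, hr⟩, map_zero]

theorem one_add_smul_mul {r : ℕ} (hr : r < 72) (t u : F) :
    (1 + t • rootF F r) * (1 + u • rootF F r) = 1 + (t + u) • rootF F r := by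
  simp only [mul_add, add_mul, one_mul, mul_one, smul_mul_smul_comm, rootF_sq hr, smul_zero, add_zero]
  module

/-- The root element `y_r(t)`. -/
def rootY (r : ℕ) (t : F) : GL I27 F :=
  if hr : r < 72 then
    ⟨1 + t • rootF F r, 1 + (-t) • rootF F r,
      by rw [one_add_smul_mul hr, add_neg_cancel, zero_smul, add_zero],
      by rw [one_add_smul_mul hr, neg_add_cancel, zero_smul, add_zero]⟩
  else 1

theorem coe_rootY {r : ℕ} (hr : r < 72) (t : F) :
    (rootY r t : Matrix I27 I27 F) = 1 + t • rootF F r := by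
  rw [rootY, dif_pos hr]

theorem rootY_add {r : ℕ} (hr : r < 72) (t u : F) : rootY r t * rootY r u = rootY r (t + u) := by
  ext1
  rw [Units.val_mul, coe_rootY hr, coe_rootY hr, coe_rootY hr, one_add_smul_mul hr]

theorem rootY_zero {r : ℕ} (hr : r < 72) : rootY r (0 : F) = 1 := by
  ext1
  rw [coe_rootY hr, zero_smul, add_zero, Units.val_one]

theorem rootY_inv {r : ℕ} (hr : r < 72) (t : F) : (rootY r t)⁻¹ = rootY r (-t) := by
  rw [inv_eq_iff_mul_eq_one, rootY_add hr, add_neg_cancel, rootY_zero hr]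

/-- The commutator formula. -/
theorem rootY_comm {r s : ℕ} (hr : r < 72) (hs : s < 72) (h1 : s ≠ r) (h2 : s ≠ opp r) (t u : F) :
    rootY s u * rootY r t =
      rootY r t * rootY s u * ((chevE6.commWord F r s t u).map fun p => rootY p.1 p.2).prod := by
  have hc := checked_E6
  have hok : commOK r s = true := ((comm_table ⟨r, hr⟩ ⟨s, hs⟩).resolve_left h1).resolve_left h2
  have hl1 : (cE E6.cert r s).length ≤ 1 := by
    unfold commOK at hok
    split at hok <;> simp_all
  have hok' : commOK s r = true := by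
    refine ((comm_table ⟨s, hs⟩ ⟨r, hr⟩).resolve_left h1.symm).resolve_left ?_
    simp only [opp] at h2 ⊢; omega
  have hl2 : (cE E6.cert s r).length ≤ 1 := by
    unfold commOK at hok'
    split at hok' <;> simp_all
  rw [hc.commWord_eq (show r < chevE6.nroots from hr) (show s < chevE6.nroots from hs),
    Checked.cTerms_short hl1 hl2]
  unfold commOK at hok
  split at hok
  · next e =>
    replace hok : rootA r * rootA s = rootA s * rootA r := by
      rw [rootA, rootA, ← toMat_mulS, toMat_eq hok, toMat_mulS]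
    have hcomm : rootF F r * rootF F s = rootF F s * rootF F r := by
      rw [rootF, rootF, ← map_mul, hok, map_mul]
    simp only [e, List.getElem?_nil, Option.toList_none, List.map_nil, List.prod_nil, mul_one]
    ext1
    simp only [Units.val_mul, coe_rootY hr, coe_rootY hs, mul_add, add_mul, one_mul, mul_one,
      smul_mul_smul_comm, hcomm, mul_comm u t]
    abel
  · next e he =>
    simp only [Bool.and_eq_true] at hok
    obtain ⟨⟨hb0, hrk0⟩, hsk0⟩ := hok
    have hb : rootA r * rootA s - rootA s * rootA r = e.2 • rootA e.1 := by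
      simp only [rootA, ← toMat_mulS, ← toMat_subS, ← toMat_smulS, toMat_eq hb0]
    have hrk : rootA r * rootA e.1 = 0 := by rw [rootA, rootA, ← toMat_mulS, toMat_eq hrk0, toMat_nil]
    have hsk : rootA s * rootA e.1 = 0 := by rw [rootA, rootA, ← toMat_mulS, toMat_eq hsk0, toMat_nil]
    have hk : e.1 < 72 := (hc.cE_mem (show r < chevE6.nroots from hr) (e := e) (by rw [he]; simp)).1
    have hB : rootF F s * rootF F r = rootF F r * rootF F s - (e.2 : F) • rootF F e.1 := by
      rw [rootF, rootF, rootF, ← toF_smul, ← hb, map_sub, map_mul, map_mul, sub_sub_cancel]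
    have hrk' : rootF F r * rootF F e.1 = 0 := by rw [rootF, rootF, ← map_mul, hrk, map_zero]
    have hsk' : rootF F s * rootF F e.1 = 0 := by rw [rootF, rootF, ← map_mul, hsk, map_zero]
    simp only [he, List.getElem?_cons_zero, Option.toList_some, List.map_cons, List.map_nil,
      List.prod_cons, List.prod_nil, mul_one, pow_one]
    ext1
    simp only [Units.val_mul, coe_rootY hr, coe_rootY hs, coe_rootY hk, mul_add, add_mul, one_mul, mul_one,
      smul_mul_smul_comm, mul_assoc, hrk', hsk', mul_zero, smul_zero, add_zero, hB]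
    module
  · simp at hok

/-! ### Scalings -/

variable (F) in
/-- The diagonal matrix `c ^ w`. -/
def scal (w : I27 → ℤ) (c : Fˣ) : Matrix I27 I27 F := Matrix.diagonal fun k => ((c ^ w k : Fˣ) : F)

theorem scal_mul (w w' : I27 → ℤ) (c : Fˣ) : scal F w c * scal F w' c = scal F (w + w') c := by
  rw [scal, scal, scal, Matrix.diagonal_mul_diagonal]
  congr 1; funext k
  rw [Pi.add_apply, _root_.zpow_add, Units.val_mul]

theorem scal_mul_rows {w : I27 → ℤ} {c : Fˣ} {M : Matrix I27 I27 ℤ} {m : ℤ}
    (h : ∀ k l, M k l ≠ 0 → w k = m) : scal F w c * toF F M = ((c ^ m : Fˣ) : F) • toF F M := by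
  ext k l
  simp only [scal, Matrix.diagonal_mul, Matrix.smul_apply, smul_eq_mul, toF_apply]
  by_cases hM : M k l = 0
  · simp [hM]
  · rw [h k l hM]

theorem scal_mul_root {w : I27 → ℤ} {c : Fˣ} {M : Matrix I27 I27 ℤ} {m : ℤ}
    (h : ∀ k l, M k l ≠ 0 → w k - w l = m) :
    scal F w c * toF F M = ((c ^ m : Fˣ) : F) • (toF F M * scal F w c) := by
  ext k l
  simp only [scal, Matrix.diagonal_mul, Matrix.mul_diagonal, Matrix.smul_apply, smul_eq_mul, toF_apply]
  by_cases hM : M k l = 0
  · simp [hM]
  · rw [show w k = m + w l by have := h k l hM; omega, _root_.zpow_add, Units.val_mul]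
    ring

variable (F) in
/-- `n_r(c) = y_r(c) y_{-r}(-c⁻¹) y_r(c)`. -/
def rootN (r : ℕ) (c : F) : GL I27 F := rootY r c * rootY (opp r) (-c⁻¹) * rootY r c

theorem coe_rootN {r : ℕ} (hr : r < 72) (c : Fˣ) :
    (rootN F r (c : F) : Matrix I27 I27 F) = scal F (wt r) c * toF F (nInt r) := by
  have ho : opp r < 72 := by simp only [opp]; omega
  have h0 := scal_mul_rows (F := F) (w := wt r) (c := c) fun k l => (rows ⟨r, hr⟩ k l).1
  have h1 := scal_mul_rows (F := F) (w := wt r) (c := c) fun k l => (rows ⟨r, hr⟩ k l).2.1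
  have h2 := scal_mul_rows (F := F) (w := wt r) (c := c) fun k l => (rows ⟨r, hr⟩ k l).2.2
  have haba : rootF F r * rootF F (opp r) * rootF F r = rootF F r := by
    rw [rootF, rootF, ← map_mul, ← map_mul, aba ⟨r, hr⟩]
  have hrhs : scal F (wt r) c * toF F (nInt r) =
      toF F (1 - rootA r * rootA (opp r) - rootA (opp r) * rootA r) + (c : F) • rootF F r -
        ((c⁻¹ : Fˣ) : F) • rootF F (opp r) := by
    rw [nInt, map_sub, map_add, mul_sub, mul_add, h0, h1, h2]
    simp [rootF]
  rw [hrhs]
  simp only [rootN, Units.val_mul, coe_rootY hr, coe_rootY ho, map_sub, map_one, map_mul, Units.val_inv_eq_inv_val]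
  rw [← rootF, ← rootF]
  simp only [mul_add, add_mul, one_mul, mul_one, smul_mul_smul_comm, ← mul_assoc, haba, rootF_sq hr, smul_zero,
    smul_smul, Matrix.smul_mul]
  have hc : (c : F) * (c : F)⁻¹ = 1 := mul_inv_cancel₀ c.ne_zero
  have hc' : (c : F)⁻¹ * (c : F) = 1 := inv_mul_cancel₀ c.ne_zero
  simp only [mul_neg, neg_mul, hc, hc', one_mul]
  module

theorem scal_one (w : I27 → ℤ) : scal F w 1 = 1 := by simp [scal]

theorem rootN_conj {i : ℕ} (hi : i < 6) {s : ℕ} (hs : s < 72) (c : Fˣ) (t : F) :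
    rootN F (chevE6.simple i) c * rootY s t * (rootN F (chevE6.simple i) c)⁻¹ =
      rootY (refl E6.cert i s)
        (((c ^ chevE6.cartan i (refl E6.cert i s) : Fˣ) : F) * ((eta E6.cert i s : F) * t)) := by
  have hp : chevE6.simple i < 72 := checked_E6.simple_lt (show i < chevE6.rank from hi)
  have hr : refl E6.cert i s < 72 :=
    checked_E6.refl_lt (show i < chevE6.rank from hi) (show s < chevE6.nroots from hs)
  have h1 : toF F (nInt (chevE6.simple i)) * rootF F s =
      (eta E6.cert i s : F) • (rootF F (refl E6.cert i s) * toF F (nInt (chevE6.simple i))) := by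
    rw [rootF, rootF, ← map_mul, nInt_mul ⟨i, hi⟩ ⟨s, hs⟩, toF_smul, map_mul]
  have h2 := scal_mul_root (F := F) (c := c) fun k l => support ⟨i, hi⟩ ⟨_, hr⟩ k l
  rw [mul_inv_eq_iff_eq_mul]
  ext1
  simp only [Units.val_mul, coe_rootY hs, coe_rootY hr, coe_rootN hp, mul_add, add_mul, mul_one, one_mul]
  congr 1
  rw [Matrix.mul_smul, Matrix.smul_mul, mul_assoc, h1, Matrix.mul_smul, ← mul_assoc]
  change t • ((eta E6.cert i s : F) • (scal F _ c * toF F _ * _)) = _
  rw [h2, Matrix.smul_mul, mul_assoc, smul_smul, smul_smul, rootF]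
  congr 1
  ring

end Cfsg.Agent.Lib.E6Cubic
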