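import Cfsg.Agent.Lib.E6Cubic.Data
import Cfsg.Prelude.Def_E6

/-!
Sparse integer matrices of size 27, given as lists of entries.
-/

set_option autoImplicit false

namespace Cfsg.Agent.Lib.E6Cubic

open Cfsg.Lie (I27)

/-- Lists of entries. -/
abbrev Sp : Type := List (Fin 27 × Fin 27 × ℤ)

/-- The number `9 k + 3 i + j` of a coordinate `(k, i, j)`. -/
def pt : Fin 27 ≃ I27 where
  toFun n := (⟨n.val / 9, by omega⟩, ⟨n.val / 3 % 3, by omega⟩, ⟨n.val % 3, by omega⟩)
  invFun x := ⟨9 * x.1.val + 3 * x.2.1.val + x.2.2.val, by omega⟩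
  left_inv n := Fin.ext (by simp only; omega)
  right_inv x := by
    obtain ⟨a, b, c⟩ := x
    simp only [Prod.mk.injEq, Fin.ext_iff]
    omega

/-- The sum of the entries in a position. -/
def coeff (S : Sp) (i j : Fin 27) : ℤ := (S.map fun e => if e.1 = i ∧ e.2.1 = j then e.2.2 else 0).sum

/-- The matrix of a list of entries. -/
def toMat (S : Sp) : Matrix I27 I27 ℤ := Matrix.of fun k l => coeff S (pt.symm k) (pt.symm l)

theorem toMat_apply (S : Sp) (k l : I27) : toMat S k l = coeff S (pt.symm k) (pt.symm l) := rfl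

theorem toMat_nil : toMat [] = 0 := rfl

theorem toMat_cons (e : Fin 27 × Fin 27 × ℤ) (S : Sp) :
    toMat (e :: S) = Matrix.single (pt e.1) (pt e.2.1) e.2.2 + toMat S := by
  ext k l
  simp only [toMat_apply, coeff, List.map_cons, List.sum_cons, Matrix.add_apply, Matrix.single,
    Matrix.of_apply, Equiv.eq_symm_apply]

theorem toMat_append (S T : Sp) : toMat (S ++ T) = toMat S + toMat T := by
  ext k l
  simp [toMat_apply, coeff]

/-- The product. -/
def mulS (S T : Sp) : Sp :=
  S.flatMap fun e => (T.filter fun f => f.1 == e.2.1).map fun f => (e.1, f.2.1, e.2.2 * f.2.2)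

theorem single_mul_toMat (e : Fin 27 × Fin 27 × ℤ) (T : Sp) :
    Matrix.single (pt e.1) (pt e.2.1) e.2.2 * toMat T =
      toMat ((T.filter fun f => f.1 == e.2.1).map fun f => (e.1, f.2.1, e.2.2 * f.2.2)) := by
  induction T with
  | nil => simp [toMat_nil]
  | cons f T ih =>
    rw [toMat_cons, mul_add, ih]
    by_cases h : f.1 = e.2.1
    · rw [List.filter_cons_of_pos (by simp [h]), List.map_cons, toMat_cons, h, Matrix.single_mul_single_same]
    · rw [List.filter_cons_of_neg (by simp [h]),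
        Matrix.single_mul_single_of_ne (h := fun he => h (pt.injective he).symm), zero_add]

theorem toMat_mulS (S T : Sp) : toMat (mulS S T) = toMat S * toMat T := by
  induction S with
  | nil => simp [mulS, toMat_nil]
  | cons e S ih =>
    rw [toMat_cons, add_mul, ← ih, single_mul_toMat, ← toMat_append]
    rfl

/-- Multiplication by an integer. -/
def smulS (n : ℤ) (S : Sp) : Sp := S.map fun e => (e.1, e.2.1, n * e.2.2)

theorem toMat_smulS (n : ℤ) (S : Sp) : toMat (smulS n S) = n • toMat S := by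
  induction S with
  | nil => simp [smulS, toMat_nil]
  | cons e S ih =>
    rw [toMat_cons, smul_add, ← ih, smulS, List.map_cons, toMat_cons, Matrix.smul_single, smul_eq_mul]
    rfl

/-- The difference. -/
def subS (S T : Sp) : Sp := S ++ smulS (-1) T

theorem toMat_subS (S T : Sp) : toMat (subS S T) = toMat S - toMat T := by
  rw [subS, toMat_append, toMat_smulS, neg_one_zsmul, sub_eq_add_neg]

/-- The identity. -/
def oneS : Sp := (List.finRange 27).map fun i => (i, i, 1)

theorem coeff_oneS : ∀ p : Fin 27 × Fin 27, coeff oneS p.1 p.2 = if p.1 = p.2 then 1 else 0 := by decide +kernel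

theorem toMat_oneS : toMat oneS = 1 := by
  ext k l
  rw [toMat_apply, coeff_oneS (pt.symm k, pt.symm l), Matrix.one_apply]
  simp only [pt.symm.injective.eq_iff]

theorem coeff_eq_zero {S : Sp} {i j : Fin 27} (h : ∀ e ∈ S, ¬ (e.1 = i ∧ e.2.1 = j)) : coeff S i j = 0 := by
  refine List.sum_eq_zero fun x hx => ?_
  obtain ⟨e, he, rfl⟩ := List.mem_map.1 hx
  rw [if_neg (h e he)]

/-- Equality of the matrices of two lists. -/
def sameS (S T : Sp) : Bool := (S ++ T).all fun e => coeff S e.1 e.2.1 == coeff T e.1 e.2.1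

theorem toMat_eq {S T : Sp} (h : sameS S T = true) : toMat S = toMat T := by
  ext k l
  simp only [sameS, List.all_eq_true, beq_iff_eq] at h
  rw [toMat_apply, toMat_apply]
  by_cases he : ∃ e ∈ S ++ T, e.1 = pt.symm k ∧ e.2.1 = pt.symm l
  · obtain ⟨e, hm, h1, h2⟩ := he
    rw [← h1, ← h2]
    exact h e hm
  · push_neg at he
    rw [coeff_eq_zero fun e hm hh => he e (List.mem_append_left T hm) hh.1 hh.2,
      coeff_eq_zero fun e hm hh => he e (List.mem_append_right S hm) hh.1 hh.2]

/-- All rows of the nonzero entries satisfy `w = m`. -/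
def rowsS (S : Sp) (w : Fin 27 → ℤ) (m : ℤ) : Bool :=
  S.all fun e => coeff S e.1 e.2.1 == 0 || w e.1 == m

theorem rows_of_rowsS {S : Sp} {w : Fin 27 → ℤ} {m : ℤ} (h : rowsS S w m = true) (k l : I27)
    (hkl : toMat S k l ≠ 0) : w (pt.symm k) = m := by
  by_cases he : ∃ e ∈ S, e.1 = pt.symm k ∧ e.2.1 = pt.symm l
  · obtain ⟨e, hm, h1, h2⟩ := he
    simp only [rowsS, List.all_eq_true, Bool.or_eq_true, beq_iff_eq] at h
    rw [toMat_apply, ← h1, ← h2] at hkl
    exact h1 ▸ (h e hm).resolve_left hkl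
  · push_neg at he
    exact absurd (coeff_eq_zero fun e hm hh => he e hm hh.1 hh.2) hkl

/-- Every nonzero entry `(i, j)` satisfies `w i - w j = m`. -/
def suppS (S : Sp) (w : Fin 27 → ℤ) (m : ℤ) : Bool := S.all fun e => w e.1 - w e.2.1 == m

theorem supp_of_suppS {S : Sp} {w : Fin 27 → ℤ} {m : ℤ} (h : suppS S w m = true) (k l : I27)
    (hkl : toMat S k l ≠ 0) : w (pt.symm k) - w (pt.symm l) = m := by
  by_cases he : ∃ e ∈ S, e.1 = pt.symm k ∧ e.2.1 = pt.symm l
  · obtain ⟨e, hm, h1, h2⟩ := he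
    simp only [suppS, List.all_eq_true, beq_iff_eq] at h
    rw [← h1, ← h2]
    exact h e hm
  · push_neg at he
    exact absurd (coeff_eq_zero fun e hm hh => he e hm hh.1 hh.2) hkl

end Cfsg.Agent.Lib.E6Cubic
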