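import Cfsg.Agent.Lib.E6Cubic.Group

/-!
The isometry group of the cubic form is generated by the root elements: the coordinate vectors are fixed one
after another.
-/

set_option autoImplicit false

namespace Cfsg.Agent.Lib.E6Cubic

open Cfsg.Lie
open Matrix

variable {F : Type*} [Field F]

/-- The image of a coordinate vector. -/
def col (g : GL I27 F) (p : Fin 27) : I27 → F := (g : Matrix I27 I27 F) *ᵥ bv F p

theorem col_mul (h g : GL I27 F) (p : Fin 27) : col (h * g) p = (h : Matrix I27 I27 F) *ᵥ col g p := by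
  rw [col, col, Matrix.mulVec_mulVec, Units.val_mul]

theorem bv_ne_zero {p : Fin 27} : bv F p (pt p) ≠ 0 := by rw [bv_apply, if_pos rfl]; exact one_ne_zero

/-- An isometry fixing the vectors of `Z`. -/
structure Fixes (Z : List (Fin 27)) (g : GL I27 F) : Prop where
  mem : g ∈ E6univ F
  fix : ∀ z ∈ Z, col g z = bv F z

theorem Fixes.mul_left {Z : List (Fin 27)} {g h : GL I27 F} (hg : Fixes Z g) (hh : h ∈ elemGroup F)
    (hfix : ∀ z ∈ Z, (h : Matrix I27 I27 F) *ᵥ bv F z = bv F z) : Fixes Z (h * g) :=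
  ⟨mul_mem (elemGroup_le hh) hg.mem, fun z hz => by rw [col_mul, hg.fix z hz, hfix z hz]⟩

theorem coe_inv_mulVec (g : GL I27 F) (v : I27 → F) :
    (g : Matrix I27 I27 F) *ᵥ ((g⁻¹ : GL I27 F) : Matrix I27 I27 F) *ᵥ v = v := by
  rw [Matrix.mulVec_mulVec, ← Units.val_mul, mul_inv_cancel, Units.val_one, Matrix.one_mulVec]

/-- `±1`. -/
theorem unit_sq {c : ℤ} (hc : c = 1 ∨ c = -1) : ((c : F)) * (c : F) = 1 := by
  rcases hc with rfl | rfl <;> simp

theorem isUnitTerm_iff {L : List (Fin 27 × ℤ)} {ν : Fin 27} (h : isUnitTerm L ν = true) :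
    ∃ c : ℤ, (c = 1 ∨ c = -1) ∧ L = [(ν, c)] := by
  simp only [isUnitTerm, Bool.or_eq_true, beq_iff_eq] at h
  rcases h with h | h
  exacts [⟨1, .inl rfl, h⟩, ⟨-1, .inr rfl, h⟩]

theorem evalL_single (ν : Fin 27) (c : ℤ) (v : I27 → F) : evalL [(ν, c)] v = (c : F) * v (pt ν) := by
  simp [evalL]

theorem col_kill {Z : List (Fin 27)} {p : Fin 27} {g : GL I27 F} (hg : Fixes Z g)
    {k : Fin 27 × Fin 27 × Fin 27} (hk : killOK Z p k = true) : col g p (pt k.1) = 0 := by
  obtain ⟨ν, z, b⟩ := k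
  simp only [killOK, Bool.and_eq_true, Bool.or_eq_true, List.contains_iff_mem, List.isEmpty_iff,
    bne_iff_ne] at hk
  obtain ⟨⟨hz, hu⟩, hcase⟩ := hk
  obtain ⟨c, hc, hL⟩ := isUnitTerm_iff hu
  have h1 : (c : F) * col g p (pt ν) = polar (bv F z) (bv F b) (col g p) := by
    rw [polar_bv, hL, evalL_single]
  suffices h : polar (bv F z) (bv F b) (col g p) = 0 by
    calc col g p (pt ν) = (c : F) * ((c : F) * col g p (pt ν)) := by rw [← mul_assoc, unit_sq hc, one_mul]
      _ = 0 := by rw [h1, h, mul_zero]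
  have h2 := polar_map hg.mem (bv F z) (((g⁻¹ : GL I27 F) : Matrix I27 I27 F) *ᵥ bv F b) (bv F p)
  rw [coe_inv_mulVec, ← col, ← col, hg.fix z hz] at h2
  rcases hcase with h0 | ⟨hb, hne⟩
  · rw [h2, polar_swap, polar_bv, h0]
    rfl
  · have h3 := polar_map hg.mem (bv F z) (bv F b) (bv F p)
    rw [← col, ← col, ← col, hg.fix z hz, hg.fix b hb] at h3
    rw [h3, polar_bv, hL, evalL_single, bv_apply, if_neg hne, mul_zero]

theorem okRoot_fix {Z : List (Fin 27)} {r : ℕ} (h : okRoot Z r = true) (t : F) :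
    r < 72 ∧ ∀ z ∈ Z, (rootY r t : Matrix I27 I27 F) *ᵥ bv F z = bv F z := by
  simp only [okRoot, Bool.and_eq_true, decide_eq_true_eq, List.all_eq_true, Bool.not_eq_true'] at h
  refine ⟨h.1, fun z hz => funext fun x => ?_⟩
  obtain ⟨i, rfl⟩ := pt.surjective x
  rw [mulVec_rootY h.1]
  suffices h0 : delta (rootS r) i (bv F z) = 0 by rw [h0, mul_zero, add_zero]
  refine List.sum_eq_zero fun y hy => ?_
  obtain ⟨e, he, rfl⟩ := List.mem_map.1 hy
  have hne : e.2.1 ≠ z := fun e0 => by
    have h' := h.2 e he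
    rw [e0, List.contains_iff_mem.2 hz] at h'
    exact Bool.noConfusion h'
  simp [bv_apply, hne]

theorem delta_filter (S : Sp) {rows : List (Fin 27)} {i : Fin 27} (hi : i ∈ rows) (v : I27 → F) :
    delta S i v = delta (S.filter fun e => rows.contains e.1) i v := by
  induction S with
  | nil => rfl
  | cons e S ih =>
    by_cases he : rows.contains e.1 = true
    · rw [List.filter_cons_of_pos (p := fun (x : Fin 27 × Fin 27 × ℤ) => rows.contains x.1) he]
      simp only [delta, List.map_cons, List.sum_cons] at ih ⊢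
      rw [ih]
    · rw [List.filter_cons_of_neg (p := fun (x : Fin 27 × Fin 27 × ℤ) => rows.contains x.1) he, ← ih]
      have hne : e.1 ≠ i := fun e0 => he (by rw [e0]; exact List.contains_iff_mem.2 hi)
      simp [delta, hne]

theorem hit_delta {rows : List (Fin 27)} {r : ℕ} {q j : Fin 27} (h : hitOK rows r q j = true) :
    ∃ c : ℤ, (c = 1 ∨ c = -1) ∧ ∀ i ∈ rows, ∀ v : I27 → F,
      delta (rootS r) i v = if q = i then (c : F) * v (pt j) else 0 := by
  simp only [hitOK, Bool.or_eq_true, beq_iff_eq] at h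
  rcases h with h | h
  exacts [⟨1, .inl rfl, fun i hi v => by rw [delta_filter _ hi, h]; simp [delta]⟩,
    ⟨-1, .inr rfl, fun i hi v => by rw [delta_filter _ hi, h]; simp [delta]⟩]

/-- A coordinate leading to `p`. -/
def Leads (F : Type*) [Field F] (Z : List (Fin 27)) (p a : Fin 27) : Prop :=
  ∀ g : GL I27 F, Fixes Z g → col g p (pt a) ≠ 0 →
    ∃ h ∈ elemGroup F, Fixes Z (h * g) ∧ col (h * g) p (pt p) ≠ 0

theorem leads_self (Z : List (Fin 27)) (p : Fin 27) : Leads F Z p p :=
  fun g hg h => ⟨1, one_mem _, by rwa [one_mul], by rwa [one_mul]⟩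

theorem leads_of_pathOK {Z : List (Fin 27)} {p : Fin 27} :
    ∀ (L : List (ℕ × Fin 27 × Fin 27)) (good : List (Fin 27)), pathOK Z L good = true →
      (∀ b ∈ good, Leads F Z p b) → ∀ e ∈ L, Leads F Z p e.2.1
  | [], _, _, _ => by simp
  | e :: L, good, h, hgood => by
    simp only [pathOK, Bool.and_eq_true, List.contains_iff_mem] at h
    obtain ⟨⟨⟨hb, hr⟩, hhit⟩, hL⟩ := h
    have hstep : Leads F Z p e.2.1 := by
      intro g hg hne
      by_cases h0 : col g p (pt e.2.2) = 0
      · obtain ⟨hr1, hfix⟩ := okRoot_fix (F := F) hr 1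
        have hg' := hg.mul_left (rootY_mem hr1 1) hfix
        obtain ⟨c, hc, hd⟩ := hit_delta (F := F) hhit
        have hne' : col (rootY e.1 1 * g) p (pt e.2.2) ≠ 0 := by
          rw [col_mul, mulVec_rootY hr1, h0, zero_add, one_mul, hd _ (List.mem_singleton.2 rfl), if_pos rfl]
          exact mul_ne_zero (left_ne_zero_of_mul_eq_one (unit_sq hc)) hne
        obtain ⟨h', hh', hf', hp'⟩ := hgood _ hb _ hg' hne'
        exact ⟨h' * rootY e.1 1, mul_mem hh' (rootY_mem hr1 1), by rwa [mul_assoc], by rwa [mul_assoc]⟩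
      · exact hgood _ hb g hg h0
    intro e' he'
    rcases List.mem_cons.1 he' with rfl | he'
    · exact hstep
    · refine leads_of_pathOK L _ hL ?_ e' he'
      intro b hb'
      rcases List.mem_cons.1 hb' with rfl | hb'
      exacts [hstep, hgood b hb']

theorem exists_outside {Z : List (Fin 27)} {p : Fin 27} {g : GL I27 F} (hg : Fixes Z g) (hp : p ∉ Z) :
    ∃ ν, ν ∉ Z ∧ col g p (pt ν) ≠ 0 := by
  by_contra hcon
  push_neg at hcon
  have h1 : (g : Matrix I27 I27 F) *ᵥ col g p = (1 : Matrix I27 I27 F) *ᵥ col g p := by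
    funext x
    simp only [Matrix.mulVec, dotProduct]
    refine Finset.sum_congr rfl fun l _ => ?_
    obtain ⟨i, rfl⟩ := pt.surjective l
    by_cases hi : i ∈ Z
    · have h := congrFun (hg.fix i hi) x
      rw [col, bv, Matrix.mulVec_single_one] at h
      rw [show (g : Matrix I27 I27 F) x (pt i) = (1 : Matrix I27 I27 F) x (pt i) from
        h.trans (by simp [Pi.single_apply, Matrix.one_apply])]
    · rw [hcon i hi, mul_zero, mul_zero]
  rw [Matrix.one_mulVec] at h1
  have h2 : col g p = bv F p := Matrix.mulVec_injective_of_isUnit g.isUnit h1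
  exact bv_ne_zero (F := F) (h2 ▸ hcon p hp)

theorem exists_goodL {Z : List (Fin 27)} {s : Step} {g : GL I27 F} (hg : Fixes Z g) (hs : srcOK Z s = true)
    (hp : s.vec ∉ Z) (hk : ∀ ν ∈ killed s, col g s.vec (pt ν) = 0) :
    ∃ a ∈ goodL s, col g s.vec (pt a) ≠ 0 := by
  rw [srcOK] at hs
  split at hs
  · simp only [List.all_eq_true, Bool.or_eq_true, List.contains_iff_mem] at hs
    obtain ⟨ν, hν, hne⟩ := exists_outside hg hp
    exact ⟨ν, ((hs ν (List.mem_finRange ν)).resolve_left fun h => h.elim hν fun h => hne (hk ν h)), hne⟩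
  · next z _ =>
    simp only [Bool.and_eq_true, List.all_eq_true, Bool.or_eq_true, List.contains_iff_mem] at hs
    obtain ⟨⟨hz, hw⟩, hall⟩ := hs
    split at hw
    · next t ht =>
      by_contra hcon
      push_neg at hcon
      simp only [Bool.or_eq_true, beq_iff_eq] at hw
      have hzero : ∀ b, polar (bv F z) (col g s.vec) (bv F b) = 0 := by
        intro b
        rw [polar_swap, polar_bv]
        refine List.sum_eq_zero fun x hx => ?_
        obtain ⟨t', ht', rfl⟩ := List.mem_map.1 hx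
        have h0 : col g s.vec (pt t'.1) = 0 :=
          (hall b (List.mem_finRange b) t' ht').elim (hk t'.1) (hcon t'.1)
        rw [h0, mul_zero]
      have h1 := polar_map hg.mem (bv F z) (bv F s.vec) (bv F t.1)
      rw [← col, ← col, hg.fix z hz, polar_expand, polar_bv, ht, evalL_single, bv_apply, if_pos rfl,
        mul_one, Finset.sum_eq_zero fun b _ => by rw [hzero b, mul_zero]] at h1
      exact left_ne_zero_of_mul_eq_one (unit_sq (F := F) hw) h1.symm
    · exact Bool.noConfusion hw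

theorem exists_head {Z : List (Fin 27)} {s : Step} {g : GL I27 F} (hg : Fixes Z g) (hp : s.vec ∉ Z)
    (hkill : s.kill.all (killOK Z s.vec) = true) (hs : headOK Z s = true) :
    ∃ h ∈ elemGroup F, Fixes Z (h * g) ∧ col (h * g) s.vec (pt s.vec) = 1 := by
  rw [headOK] at hs
  split at hs
  · next f _ =>
    simp only [Bool.and_eq_true, List.contains_iff_mem] at hs
    obtain ⟨⟨hz, hb⟩, hu⟩ := hs
    obtain ⟨c, hc, hL⟩ := isUnitTerm_iff hu
    refine ⟨1, one_mem _, by rwa [one_mul], ?_⟩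
    rw [one_mul]
    have h := polar_map hg.mem (bv F f.1) (bv F f.2) (bv F s.vec)
    rw [← col, ← col, ← col, hg.fix _ hz, hg.fix _ hb, polar_bv, polar_bv, hL, evalL_single, evalL_single,
      bv_apply, if_pos rfl, mul_one] at h
    calc col g s.vec (pt s.vec) = (c : F) * ((c : F) * col g s.vec (pt s.vec)) := by
          rw [← mul_assoc, unit_sq hc, one_mul]
      _ = 1 := by rw [h, unit_sq hc]
  · simp only [Bool.and_eq_true] at hs
    obtain ⟨⟨hpath, hsrc⟩, htor⟩ := hs
    have hk : ∀ ν ∈ killed s, col g s.vec (pt ν) = 0 := by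
      intro ν hν
      obtain ⟨k, hk, rfl⟩ := List.mem_map.1 hν
      exact col_kill hg (List.all_eq_true.1 hkill k hk)
    obtain ⟨a, ha, hne⟩ := exists_goodL hg hsrc hp hk
    have hlead : Leads F Z s.vec a := by
      rcases List.mem_cons.1 ha with rfl | ha
      · exact leads_self Z _
      · obtain ⟨e, he, rfl⟩ := List.mem_map.1 ha
        exact leads_of_pathOK s.path [s.vec] hpath
          (fun b hb => (List.mem_singleton.1 hb) ▸ leads_self Z _) e he
    obtain ⟨h₁, hh₁, hg₁, hne₁⟩ := hlead g hg hne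
    simp only [torOK, Bool.and_eq_true, List.all_eq_true, beq_iff_eq] at htor
    obtain ⟨hZ0, hp1⟩ := htor
    obtain ⟨h₂, hh₂, e₂⟩ := exists_torus s.tor (Units.mk0 _ hne₁)⁻¹
    have hfix : ∀ z ∈ Z, (h₂ : Matrix I27 I27 F) *ᵥ bv F z = bv F z := fun z hz => funext fun x => by
      obtain ⟨i, rfl⟩ := pt.surjective x
      rw [e₂, scal_mulVec, bv_apply, Equiv.symm_apply_apply]
      split_ifs with hi
      · rw [hi, hZ0 z hz, zpow_zero, Units.val_one, one_mul]
      · rw [mul_zero]
    refine ⟨h₂ * h₁, mul_mem hh₂ hh₁, ?_, ?_⟩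
    · rw [mul_assoc]
      exact hg₁.mul_left hh₂ hfix
    · rw [mul_assoc, col_mul, e₂, scal_mulVec, Equiv.symm_apply_apply, hp1, zpow_one, Units.val_inv_eq_inv_val,
        Units.val_mk0, inv_mul_cancel₀ hne₁]

theorem exists_clear {Z : List (Fin 27)} {s : Step} (hs : clearOK Z s = true) :
    ∀ L : List (ℕ × Fin 27), (∀ e ∈ L, e ∈ s.clear) → ∀ g : GL I27 F, Fixes Z g →
      col g s.vec (pt s.vec) = 1 → ∃ h ∈ elemGroup F, Fixes Z (h * g) ∧
        col (h * g) s.vec (pt s.vec) = 1 ∧ ∀ e ∈ L, col (h * g) s.vec (pt e.2) = 0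
  | [], _, g, hg, h1 => ⟨1, one_mem _, by rwa [one_mul], by rwa [one_mul], by simp⟩
  | e :: L, hmem, g, hg, h1 => by
    obtain ⟨h, hh, hg', hp', hL⟩ :=
      exists_clear hs L (fun x hx => hmem x (List.mem_cons_of_mem e hx)) g hg h1
    simp only [clearOK, List.all_eq_true, Bool.and_eq_true, bne_iff_ne] at hs
    obtain ⟨⟨hr, hhit⟩, hne⟩ := hs e (hmem e List.mem_cons_self)
    obtain ⟨c, hc, hd⟩ := hit_delta (F := F) hhit
    set t : F := -((c : F) * col (h * g) s.vec (pt e.2)) with ht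
    obtain ⟨hr1, hfix⟩ := okRoot_fix hr t
    have hval : ∀ i ∈ s.vec :: cleared s, col (rootY e.1 t * (h * g)) s.vec (pt i) =
        if e.2 = i then 0 else col (h * g) s.vec (pt i) := by
      intro i hi
      rw [col_mul, mulVec_rootY hr1, hd i hi]
      split_ifs with h0
      · subst h0
        rw [hp', ht]
        linear_combination (-col (h * g) s.vec (pt e.2)) * unit_sq (F := F) hc
      · rw [mul_zero, add_zero]
    refine ⟨rootY e.1 t * h, mul_mem (rootY_mem hr1 t) hh, ?_, ?_, ?_⟩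
    · rw [mul_assoc]
      exact hg'.mul_left (rootY_mem hr1 t) hfix
    · rw [mul_assoc, hval _ List.mem_cons_self, if_neg hne, hp']
    · intro x hx
      rw [mul_assoc, hval x.2 (List.mem_cons_of_mem _ (List.mem_map_of_mem (hmem x hx)))]
      split_ifs with h0
      · rfl
      · rcases List.mem_cons.1 hx with rfl | hx
        · exact absurd rfl h0
        · exact hL x hx

theorem evalQ_col {g : GL I27 F} (hg : g ∈ E6univ F) (hF : ∃ a : F, a ≠ 0 ∧ a ≠ 1) (p μ : Fin 27) :
    evalQ (qTerms μ) (col g p) = 0 := by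
  have hT : ∀ x, cubicT ((g : Matrix I27 I27 F) *ᵥ x) = cubicT x := hg
  set v := ((g⁻¹ : GL I27 F) : Matrix I27 I27 F) *ᵥ bv F μ with hv
  have hgv : (g : Matrix I27 I27 F) *ᵥ v = bv F μ := coe_inv_mulVec g _
  have hTv : cubicT v = 0 := by rw [← hT, hgv, cubicT_bv]
  have key : ∀ t : F, t * evalQ (qTerms μ) (col g p) = t ^ 2 * evalQ (qTerms p) v := by
    intro t
    have h1 : cubicT (col g p + t • bv F μ) = cubicT (t • v + (1 : F) • bv F p) := by
      rw [← hgv, col, ← Matrix.mulVec_smul, ← Matrix.mulVec_add, hT, one_smul, add_comm]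
    rw [cubicT_add_bv, cubicT_add_bv, col, hT, cubicT_bv, cubicT_smul, hTv, mul_zero, zero_add, zero_add,
      one_mul, evalQ_smul] at h1
    exact h1
  obtain ⟨a, ha0, ha1⟩ := hF
  have e1 := key 1
  have ea := key a
  rw [one_mul, one_pow, one_mul] at e1
  rw [← e1] at ea
  have hne : a * (1 - a) ≠ 0 := mul_ne_zero ha0 (sub_ne_zero.2 (Ne.symm ha1))
  exact (mul_eq_zero.1 (show a * (1 - a) * evalQ (qTerms μ) (col g p) = 0 by
    linear_combination ea)).resolve_left hne

theorem evalQ_live {s : Step} (u : I27 → F) (hz : ∀ ν ∈ zeros s, u (pt ν) = 0) (μ : Fin 27) :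
    evalQ (liveQ s μ) u = evalQ (qTerms μ) u := by
  rw [liveQ]
  induction qTerms μ with
  | nil => rfl
  | cons t L ih =>
    by_cases h : ((zeros s).contains t.1 || (zeros s).contains t.2.1) = true
    · rw [List.filter_cons_of_neg (by rw [h]; decide), ih]
      simp only [Bool.or_eq_true, List.contains_iff_mem] at h
      simp only [evalQ, List.map_cons, List.sum_cons]
      rcases h with h | h <;> rw [hz _ h] <;> ring
    · rw [List.filter_cons_of_pos (by rw [Bool.not_eq_true] at h; rw [h]; decide)]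
      simp only [evalQ, List.map_cons, List.sum_cons] at ih ⊢
      rw [ih]

theorem exists_fix {Z : List (Fin 27)} {s : Step} (hF : ∃ a : F, a ≠ 0 ∧ a ≠ 1) (hs : stepOK Z s = true)
    {g : GL I27 F} (hg : Fixes Z g) : ∃ h ∈ elemGroup F, Fixes (s.vec :: Z) (h * g) := by
  simp only [stepOK, Bool.and_eq_true, Bool.not_eq_true'] at hs
  obtain ⟨⟨⟨⟨⟨hp, hkill⟩, hhead⟩, hclear⟩, hwhite⟩, hcover⟩ := hs
  have hp' : s.vec ∉ Z := fun h => by
    rw [List.contains_iff_mem.2 h] at hp
    exact Bool.noConfusion hp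
  obtain ⟨h₁, hh₁, hg₁, h11⟩ := exists_head hg hp' hkill hhead
  obtain ⟨h₂, hh₂, hg₂, h21, h20⟩ := exists_clear hclear s.clear (fun e he => he) (h₁ * g) hg₁ h11
  refine ⟨h₂ * h₁, mul_mem hh₂ hh₁, ⟨by rw [mul_assoc]; exact hg₂.mem, ?_⟩⟩
  rw [mul_assoc]
  intro z hz
  rcases List.mem_cons.1 hz with rfl | hz
  swap
  · exact hg₂.fix z hz
  have hzero : ∀ ν ∈ zeros s, col (h₂ * (h₁ * g)) s.vec (pt ν) = 0 := by
    intro ν hν
    rcases List.mem_append.1 hν with h | h
    · obtain ⟨k, hk, rfl⟩ := List.mem_map.1 h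
      exact col_kill hg₂ (List.all_eq_true.1 hkill k hk)
    · obtain ⟨e, he, rfl⟩ := List.mem_map.1 h
      exact h20 e he
  funext x
  obtain ⟨ν, rfl⟩ := pt.surjective x
  rw [bv_apply]
  split_ifs with hν
  · rw [hν, h21]
  simp only [coverOK, List.all_eq_true, Bool.or_eq_true, beq_iff_eq, List.contains_iff_mem] at hcover
  rcases hcover ν (List.mem_finRange ν) with (h | h) | h
  · exact absurd h hν
  · exact hzero ν h
  · obtain ⟨w, hw, rfl⟩ := List.mem_map.1 h
    have hQ := evalQ_col hg₂.mem hF s.vec w.2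
    rw [← evalQ_live _ hzero] at hQ
    have hok := List.all_eq_true.1 hwhite w hw
    simp only [whiteOK, Bool.or_eq_true, beq_iff_eq] at hok
    rcases hok with ((h | h) | h) | h <;> rw [h] at hQ <;> simpa [evalQ, h21] using hQ

theorem exists_elem_inverse (hF : ∃ a : F, a ≠ 0 ∧ a ≠ 1) :
    ∀ (L : List Step) (Z : List (Fin 27)), allOK Z L = true → ∀ g : GL I27 F, Fixes Z g →
      ∃ h ∈ elemGroup F, h * g = 1
  | [], Z, h, g, hg => by
    refine ⟨1, one_mem _, ?_⟩
    simp only [allOK, List.all_eq_true, List.contains_iff_mem] at h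
    rw [one_mul]
    refine Units.ext ?_
    ext k l
    obtain ⟨i, rfl⟩ := pt.surjective l
    have h' := congrFun (hg.fix i (h i (List.mem_finRange i))) k
    rw [col, bv, Matrix.mulVec_single_one] at h'
    exact h'.trans (by simp [Pi.single_apply, Matrix.one_apply])
  | s :: L, Z, h, g, hg => by
    simp only [allOK, Bool.and_eq_true] at h
    obtain ⟨h₁, hh₁, hg₁⟩ := exists_fix hF h.1 hg
    obtain ⟨h₂, hh₂, e⟩ := exists_elem_inverse hF L _ h.2 _ hg₁
    exact ⟨h₂ * h₁, mul_mem hh₂ hh₁, by rwa [mul_assoc]⟩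

theorem elemGroup_eq (hF : ∃ a : F, a ≠ 0 ∧ a ≠ 1) : elemGroup F = E6univ F := by
  refine le_antisymm elemGroup_le fun g hg => ?_
  obtain ⟨h, hh, e⟩ := exists_elem_inverse hF stepTab [] allOK_stepTab g ⟨hg, by simp⟩
  rw [show g = h⁻¹ from eq_inv_of_mul_eq_one_right e]
  exact inv_mem hh

end Cfsg.Agent.Lib.E6Cubic
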